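import Cfsg.Agent.Lib.SympTwelve.Defs
import Cfsg.Agent.Lib.SympTwoPrime.Tensor

/-!
The tensor step for maximal subgroups of the symplectic group in dimension twelve.
-/

set_option autoImplicit false

namespace Cfsg.Agent.Lib.SympTwelve

open Matrix Cfsg.Geo
open Cfsg.Agent.Lib
open Cfsg.Agent.Lib.MaxTensor
open scoped MatrixGroups Matrix Kronecker

variable {F : Type*} [Field F]

local notation "I12" => (Fin 6 ⊕ Fin 6)
local notation "M12" => Matrix (Fin 6 ⊕ Fin 6) (Fin 6 ⊕ Fin 6) F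
local notation "V12" => (Fin 6 ⊕ Fin 6 → F)
local notation "G12" => Matrix.GeneralLinearGroup (Fin 6 ⊕ Fin 6) F
local notation "B12" => Cfsg.Agent.Lib.MaxSub.AltForm.B (Cfsg.Agent.Lib.MaxSub.stdAlt 6 F)

theorem formOfGram_eq_dot {κ : Type} [Fintype κ] (G : Matrix κ κ F) (x y : κ → F) :
    formOfGram id G x y = x ⬝ᵥ G *ᵥ y := by
  simp only [formOfGram, dotProduct, Matrix.mulVec, Finset.mul_sum, id_eq, mul_assoc]

/-- The pure tensor. -/
def tens {a b : ℕ} (t : Fin b → F) : (Fin a → F) →ₗ[F] (Fin a × Fin b → F) where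
  toFun u p := u p.1 * t p.2
  map_add' u u' := by funext p; simp [add_mul]
  map_smul' c u := by funext p; simp [mul_assoc]

theorem tens_injective {a b : ℕ} {t : Fin b → F} (ht : t ≠ 0) :
    Function.Injective (tens (F := F) (a := a) t) := by
  intro u u' h
  obtain ⟨j, hj⟩ : ∃ j, t j ≠ 0 := Function.ne_iff.1 ht
  funext r
  exact mul_right_cancel₀ hj (congrFun h (r, j))

theorem kron_tens {a b : ℕ} (C : Matrix (Fin a) (Fin a) F) (D : Matrix (Fin b) (Fin b) F) (t : Fin b → F)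
    (u : Fin a → F) : (C ⊗ₖ D) *ᵥ tens t u = tens (D *ᵥ t) (C *ᵥ u) := by
  funext p
  show ∑ q, (C ⊗ₖ D) p q * (u q.1 * t q.2) = (∑ s, C p.1 s * u s) * ∑ l, D p.2 l * t l
  rw [Fintype.sum_prod_type, Finset.sum_mul_sum]
  refine Finset.sum_congr rfl fun s _ => Finset.sum_congr rfl fun l _ => ?_
  rw [Matrix.kroneckerMap_apply]; ring

theorem tens_smul {a b : ℕ} (ρ : F) (t : Fin b → F) (u : Fin a → F) : tens (ρ • t) u = tens t (ρ • u) := by
  funext p
  show u p.1 * (ρ * t p.2) = ρ * u p.1 * t p.2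
  ring

theorem dot_tens {a b : ℕ} (x y : Fin b → F) (u v : Fin a → F) :
    tens x u ⬝ᵥ tens y v = (u ⬝ᵥ v) * (x ⬝ᵥ y) := by
  show ∑ p : Fin a × Fin b, u p.1 * x p.2 * (v p.1 * y p.2) = (∑ i, u i * v i) * ∑ j, x j * y j
  rw [Fintype.sum_prod_type, Finset.sum_mul_sum]
  exact Finset.sum_congr rfl fun i _ => Finset.sum_congr rfl fun j _ => by ring

/-- Vanishing in the Kronecker product with an invertible factor. -/
theorem kron_cancel {a b : ℕ} {X : Matrix (Fin a) (Fin a) F} {Y Y' : Matrix (Fin b) (Fin b) F} {i j : Fin a}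
    {c c' : F} (h : c • Y = c' • Y') (hX : X i j = c) (hc : c ≠ 0) : Y = (c' / X i j) • Y' := by
  rw [hX, div_eq_inv_mul, ← smul_smul, ← h, inv_smul_smul₀ hc]

/-- A tensor frame in which the form is the product of an alternating and a symmetric form. -/
structure TensorData (a b : ℕ) (H : Subgroup G12) where
  L : ((Fin a × Fin b) → F) ≃ₗ[F] V12
  Ga : Matrix (Fin a) (Fin a) F
  Gb : Matrix (Fin b) (Fin b) F
  hGa : IsUnit Ga
  hGb : IsUnit Gb
  skew : Gaᵀ = -Ga
  alt : ∀ u, u ⬝ᵥ Ga *ᵥ u = 0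
  symm : Gbᵀ = Gb
  form : ∀ x y, B12 (L x) (L y) = x ⬝ᵥ (Ga ⊗ₖ Gb) *ᵥ y
  act : ∀ h ∈ H, ∃ (C : GL (Fin a) F) (D : GL (Fin b) F), ∀ x, (h : M12) *ᵥ L x =
    L (((C : Matrix (Fin a) (Fin a) F) ⊗ₖ (D : Matrix (Fin b) (Fin b) F)) *ᵥ x)

namespace TensorData

variable {a b : ℕ} {H : Subgroup (Matrix.GeneralLinearGroup (Fin 6 ⊕ Fin 6) F)} (T : TensorData a b H)

include T

theorem form_tens (t t' : Fin b → F) (u u' : Fin a → F) :
    B12 (T.L (tens t u)) (T.L (tens t' u')) = (u ⬝ᵥ T.Ga *ᵥ u') * (t ⬝ᵥ T.Gb *ᵥ t') := by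
  rw [T.form, kron_tens, dot_tens]

theorem comm_b (x y : Fin b → F) : x ⬝ᵥ T.Gb *ᵥ y = y ⬝ᵥ T.Gb *ᵥ x := by
  rw [Matrix.dotProduct_mulVec, dotProduct_comm, ← Matrix.mulVec_transpose, T.symm]

theorem pos_a : 0 < a := by
  rcases Nat.eq_zero_or_pos a with rfl | h
  · exfalso
    have h := T.L.finrank_eq
    simp at h
  · exact h

theorem exists_pair_a : ∃ u u' : Fin a → F, u ⬝ᵥ T.Ga *ᵥ u' = 1 := by
  classical
  haveI : Nonempty (Fin a) := ⟨⟨0, T.pos_a⟩⟩
  obtain ⟨i, j, hij⟩ := PrimeDim.FormDescent.exists_ne_entry T.hGa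
  refine ⟨Pi.single i 1, (T.Ga i j)⁻¹ • Pi.single j 1, ?_⟩
  simp [Matrix.mulVec_smul, Matrix.mulVec_single_one, hij]

/-- The factors are similarities. -/
theorem act_form (hH : H ≤ Cfsg.spGL 6 F) {h : G12} (hh : h ∈ H) :
    ∃ (C : GL (Fin a) F) (D : GL (Fin b) F) (μ : F), μ ≠ 0 ∧
    (∀ x, (h : M12) *ᵥ T.L x = T.L (((C : Matrix (Fin a) (Fin a) F) ⊗ₖ (D : Matrix (Fin b) (Fin b) F)) *ᵥ x)) ∧
    ∀ v w, ((D : Matrix (Fin b) (Fin b) F) *ᵥ v) ⬝ᵥ T.Gb *ᵥ ((D : Matrix (Fin b) (Fin b) F) *ᵥ w) =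
      μ * (v ⬝ᵥ T.Gb *ᵥ w) := by
  obtain ⟨C, D, hCD⟩ := T.act h hh
  obtain ⟨u, u', hu⟩ := T.exists_pair_a
  set c := ((C : Matrix (Fin a) (Fin a) F) *ᵥ u) ⬝ᵥ T.Ga *ᵥ ((C : Matrix (Fin a) (Fin a) F) *ᵥ u') with hc
  have key : ∀ v w, c * (((D : Matrix (Fin b) (Fin b) F) *ᵥ v) ⬝ᵥ T.Gb *ᵥ ((D : Matrix (Fin b) (Fin b) F) *ᵥ w)) =
      v ⬝ᵥ T.Gb *ᵥ w := fun v w => by
    have hp := MaxSub.mem_spGL_iff.1 (hH hh) (T.L (tens v u)) (T.L (tens w u'))
    rw [hCD, hCD, kron_tens, kron_tens, T.form_tens, T.form_tens, hu, one_mul] at hp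
    exact hp
  have hc0 : c ≠ 0 := by
    intro h0
    rcases Nat.eq_zero_or_pos b with rfl | hb
    · have h := T.L.finrank_eq
      simp at h
    haveI : Nonempty (Fin b) := ⟨⟨0, hb⟩⟩
    obtain ⟨i, j, hij⟩ := PrimeDim.FormDescent.exists_ne_entry T.hGb
    have := key (Pi.single i 1) (Pi.single j 1)
    rw [h0, zero_mul] at this
    simp [Matrix.mulVec_single_one] at this
    exact hij this.symm
  exact ⟨C, D, c⁻¹, inv_ne_zero hc0, hCD, fun v w => by rw [← key v w, inv_mul_cancel_left₀ hc0]⟩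

/-- The slice attached to a vector of the symmetric factor. -/
def slice (t : Fin b → F) : Submodule F V12 := LinearMap.range (T.L.toLinearMap ∘ₗ tens t)

theorem finrank_slice {t : Fin b → F} (ht : t ≠ 0) : Module.finrank F (T.slice t) = a := by
  rw [slice, LinearMap.finrank_range_of_inj (f := T.L.toLinearMap ∘ₗ tens t) (T.L.injective.comp (tens_injective ht)),
    Module.finrank_fintype_fun_eq_card, Fintype.card_fin]

theorem slice_ts {t : Fin b → F} (ht : t ⬝ᵥ T.Gb *ᵥ t = 0) :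
    IsTotallySingularFor (Cfsg.sympForm 6 F) (T.slice t) := by
  rintro _ ⟨u, rfl⟩ _ ⟨u', rfl⟩
  rw [← MaxSub.stdAlt_apply]
  show B12 (T.L (tens t u)) (T.L (tens t u')) = 0
  rw [T.form_tens, ht, mul_zero]

theorem slice_nd {t : Fin b → F} (ht : t ⬝ᵥ T.Gb *ᵥ t ≠ 0) :
    IsNondegenerateOn (Cfsg.sympForm 6 F) (T.slice t) := by
  rintro _ ⟨u, rfl⟩ hw
  have hu : u ≠ 0 := fun h => hw (by rw [h, map_zero])
  obtain ⟨u', hu'⟩ : ∃ u' : Fin a → F, u ⬝ᵥ T.Ga *ᵥ u' ≠ 0 := by
    by_contra hc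
    simp only [not_exists, not_not] at hc
    apply hu
    have h0 : u ᵥ* T.Ga = 0 := dotProduct_eq_zero _ fun x => by rw [← Matrix.dotProduct_mulVec]; exact hc x
    exact Matrix.vecMul_injective_iff_isUnit.2 T.hGa (by simp only [h0, Matrix.zero_vecMul])
  have h1 : Cfsg.sympForm 6 F (T.L (tens t u)) (T.L (tens t u')) ≠ 0 := by
    rw [← MaxSub.stdAlt_apply, T.form_tens]
    exact mul_ne_zero hu' ht
  refine ⟨⟨_, ⟨u', rfl⟩, ?_⟩, _, ⟨u', rfl⟩, h1⟩
  rw [SympTwoPrime.sympSkew]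
  exact neg_ne_zero.2 h1

theorem map_slice {h : G12} {C : GL (Fin a) F} {D : GL (Fin b) F}
    (hCD : ∀ x, (h : M12) *ᵥ T.L x =
      T.L (((C : Matrix (Fin a) (Fin a) F) ⊗ₖ (D : Matrix (Fin b) (Fin b) F)) *ᵥ x))
    {t t' : Fin b → F} (ht : t ≠ 0) (ht' : t' ≠ 0) {ρ : F}
    (hD : (D : Matrix (Fin b) (Fin b) F) *ᵥ t = ρ • t') :
    (T.slice t).map (Matrix.toLin' (h : M12)) = T.slice t' := by
  refine Submodule.eq_of_le_of_finrank_eq ?_ ?_
  · rintro _ ⟨_, ⟨u, rfl⟩, rfl⟩
    refine ⟨ρ • ((C : Matrix (Fin a) (Fin a) F) *ᵥ u), ?_⟩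
    show T.L (tens t' _) = Matrix.toLin' (h : M12) (T.L (tens t u))
    rw [Matrix.toLin'_apply, hCD, kron_tens, hD, tens_smul]
  · have hinj : Function.Injective (Matrix.toLin' (h : M12)) := fun x y hxy => by
      have := congrArg (fun z => ((h⁻¹ : G12) : M12) *ᵥ z) hxy
      simpa [Matrix.toLin'_apply, Matrix.mulVec_mulVec] using this
    rw [← (Submodule.equivMapOfInjective _ hinj (T.slice t)).finrank_eq, T.finrank_slice ht, T.finrank_slice ht']

/-- The tensor stabiliser cases. -/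
theorem le_tensor : ∃ (e : I12 ≃ Fin a × Fin b) (P : G12) (f₁ : (Fin a → F) → (Fin a → F) → F)
    (f₂ : (Fin b → F) → (Fin b → F) → F), IsSymplecticForm f₁ ∧ IsSymmetricForm f₂ ∧
    IsTensorFormStructure id (Cfsg.sympForm 6 F) f₁ f₂ e P ∧ H ≤ tensorProductSubgroup a b e P := by
  obtain ⟨e, P, hP, hmem⟩ := SympTwoPrime.exists_tensor_frame T.L
  have hbil : ∀ {n : ℕ} (G : Matrix (Fin n) (Fin n) F), IsBilinearForm (fun v w : Fin n → F => v ⬝ᵥ G *ᵥ w) :=
    fun G => ⟨fun x y v => by simp only [add_dotProduct], fun c x v => by simp only [smul_dotProduct, smul_eq_mul],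
      fun v x y => by simp only [Matrix.mulVec_add, dotProduct_add],
      fun c v x => by simp only [Matrix.mulVec_smul, dotProduct_smul, smul_eq_mul]⟩
  have hndg : ∀ {n : ℕ} (G : Matrix (Fin n) (Fin n) F), IsUnit G →
      IsNondegenerateForm (fun v w : Fin n → F => v ⬝ᵥ G *ᵥ w) := by
    intro n G hG v hv
    constructor
    · by_contra hc
      simp only [not_exists, not_not] at hc
      apply hv
      have h0 : G *ᵥ v = 0 := dotProduct_eq_zero _ fun x => by rw [dotProduct_comm]; exact hc x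
      exact Matrix.mulVec_injective_iff_isUnit.2 hG (by rw [h0, Matrix.mulVec_zero])
    · by_contra hc
      simp only [not_exists, not_not] at hc
      apply hv
      have h0 : v ᵥ* G = 0 := dotProduct_eq_zero _ fun x => by rw [← Matrix.dotProduct_mulVec]; exact hc x
      exact Matrix.vecMul_injective_iff_isUnit.2 hG (by simp only [h0, Matrix.zero_vecMul])
  have hgr : ∀ {n : ℕ} (G : Matrix (Fin n) (Fin n) F), gramMatrix (fun v w : Fin n → F => v ⬝ᵥ G *ᵥ w) = G :=
    fun G => by ext i j; simp [gramMatrix, Matrix.mulVec_single_one]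
  refine ⟨e, P, fun v w => v ⬝ᵥ T.Ga *ᵥ w, fun v w => v ⬝ᵥ T.Gb *ᵥ w,
    ⟨hbil _, fun v w => ?_, T.alt, hndg _ T.hGa⟩, ⟨hbil _, fun v w => T.comm_b v w, hndg _ T.hGb⟩, ?_, fun h hh => ?_⟩
  · rw [Matrix.dotProduct_mulVec, dotProduct_comm, ← Matrix.mulVec_transpose, T.skew, Matrix.neg_mulVec,
      dotProduct_neg]
  · refine ⟨1, one_ne_zero, fun x y => ?_⟩
    rw [hP, hP, ← MaxSub.stdAlt_apply, T.form, one_mul, hgr, hgr, formOfGram_eq_dot]
  · obtain ⟨C, D, hCD⟩ := T.act h hh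
    exact hmem h C D hCD

/-- A totally singular or non-degenerate invariant slice contradicts irreducibility. -/
theorem not_invariant_slice (hirrH : ActsIrreducibly (matrixSet H)) (ha : a < 12) {t : Fin b → F} (ht : t ≠ 0)
    (h : ∀ h ∈ H, ∃ (C : GL (Fin a) F) (D : GL (Fin b) F) (ρ : F),
      (∀ x, ((h : G12) : M12) *ᵥ T.L x =
        T.L (((C : Matrix (Fin a) (Fin a) F) ⊗ₖ (D : Matrix (Fin b) (Fin b) F)) *ᵥ x)) ∧
      (D : Matrix (Fin b) (Fin b) F) *ᵥ t = ρ • t) : False := by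
  have hW := T.finrank_slice ht
  have ha0 := T.pos_a
  rcases hirrH (T.slice t) (by
    rintro _ ⟨g, hg, rfl⟩
    obtain ⟨C, D, ρ, hCD, hD⟩ := h g hg
    exact (T.map_slice hCD ht ht hD).le) with h0 | h0
  · rw [h0, finrank_bot] at hW; omega
  · rw [h0, finrank_top, Module.finrank_fintype_fun_eq_card, Fintype.card_sum, Fintype.card_fin] at hW; omega

/-- Characteristic two: an invariant subspace, or an invariant quadratic form. -/
theorem char_two [Fintype F] (hH : IsMaximalIn (Cfsg.spGL 6 F) H) (hirrH : ActsIrreducibly (matrixSet H))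
    (ha : a < 12) (h2 : (2 : F) = 0) : Cases H := by
  classical
  haveI : CharP F 2 := CharTwo.of_one_ne_zero_of_two_eq_zero one_ne_zero h2
  haveI : ExpChar F 2 := ExpChar.prime Nat.prime_two
  haveI : PerfectRing F 2 := PerfectRing.ofFiniteOfIsReduced 2 F
  by_cases hd : ∃ i, T.Gb i i ≠ 0
  · exfalso
    have hsq : ∀ x y : F, x ^ 2 = y ^ 2 → x = y := fun x y h => (frobenius_inj F 2) h
    let w : Fin b → F := fun i => (frobeniusEquiv F 2).symm (T.Gb i i)
    have hr : ∀ i, w i ^ 2 = T.Gb i i := fun i => frobeniusEquiv_symm_pow_p F 2 _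
    have hw : w ≠ 0 := fun h0 => by
      obtain ⟨i, hi⟩ := hd
      exact hi (by rw [← hr, h0]; simp)
    have hdiag : ∀ v : Fin b → F, v ⬝ᵥ T.Gb *ᵥ v = (w ⬝ᵥ v) ^ 2 := by
      intro v
      simp only [dotProduct, Matrix.mulVec, Finset.mul_sum]
      rw [CharTwo.sum_sq, PrimeDim.FormDescent.sum_sym_diag h2 fun k l => by
        rw [show T.Gb l k = T.Gb k l by rw [← congrFun (congrFun T.symm k) l, Matrix.transpose_apply]]; ring]
      refine Finset.sum_congr rfl fun k _ => ?_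
      rw [mul_pow, hr]; ring
    obtain ⟨U, hU⟩ := T.hGb
    set z : Fin b → F := (↑U⁻¹ : Matrix (Fin b) (Fin b) F) *ᵥ w with hz
    have hGz : T.Gb *ᵥ z = w := by rw [hz, Matrix.mulVec_mulVec, ← hU, Units.mul_inv, Matrix.one_mulVec]
    have hz0 : z ≠ 0 := fun h => hw (by rw [← hGz, h, Matrix.mulVec_zero])
    refine T.not_invariant_slice hirrH ha hz0 fun h hh => ?_
    obtain ⟨C, D, μ, hμ, hCD, hD⟩ := T.act_form hH.1.le hh
    set ν : F := (frobeniusEquiv F 2).symm μ
    have hν : ν ^ 2 = μ := frobeniusEquiv_symm_pow_p F 2 _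
    have hwD : ∀ v, w ⬝ᵥ ((D : Matrix (Fin b) (Fin b) F) *ᵥ v) = ν * (w ⬝ᵥ v) := fun v => by
      apply hsq
      rw [mul_pow, hν, ← hdiag, ← hdiag, hD]
    have hall : T.Gb *ᵥ ((D : Matrix (Fin b) (Fin b) F) *ᵥ z) = ν • w := by
      refine dotProduct_eq _ _ fun y => ?_
      obtain ⟨v, rfl⟩ : ∃ v, (D : Matrix (Fin b) (Fin b) F) *ᵥ v = y :=
        ⟨((D⁻¹ : GL (Fin b) F) : Matrix (Fin b) (Fin b) F) *ᵥ y, by
          rw [Matrix.mulVec_mulVec, Units.mul_inv, Matrix.one_mulVec]⟩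
      rw [dotProduct_comm, hD, hGz, smul_dotProduct, smul_eq_mul, hwD, dotProduct_comm v w, ← hν]
      ring
    refine ⟨C, D, ν, hCD, ?_⟩
    have := congrArg (fun x => (↑U⁻¹ : Matrix (Fin b) (Fin b) F) *ᵥ x) hall
    simp only [← hU, Matrix.mulVec_mulVec, Units.inv_mul_cancel_left, Matrix.mulVec_smul] at this
    exact this
  simp only [not_exists, not_not] at hd
  have heven : ¬ Odd (Fintype.card F) := by
    intro hodd
    have h := FiniteField.even_card_of_char_two (F := F) (by rw [ringChar.eq F 2])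
    exact (Nat.not_even_iff_odd.2 hodd) (by simpa [Nat.even_iff] using h)
  let g : (Fin a → F) → (Fin a → F) → F := fun u v => u ⬝ᵥ T.Ga *ᵥ v
  let col : (Fin a × Fin b → F) → Fin b → Fin a → F := fun x j i => x (i, j)
  let q₀ : (Fin a × Fin b → F) → F := fun x =>
    ∑ j, ∑ l, if j < l then T.Gb j l * g (col x j) (col x l) else 0
  let Q : V12 → F := fun v => q₀ (T.L.symm v)
  have hg : ∀ u v, g u v = g v u := fun u v => by
    show u ⬝ᵥ T.Ga *ᵥ v = v ⬝ᵥ T.Ga *ᵥ u
    rw [Matrix.dotProduct_mulVec, dotProduct_comm, ← Matrix.mulVec_transpose, T.skew, Matrix.neg_mulVec,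
      dotProduct_neg]
    linear_combination (-(v ⬝ᵥ T.Ga *ᵥ u)) * h2
  have hflat : ∀ x y, x ⬝ᵥ (T.Ga ⊗ₖ T.Gb) *ᵥ y = ∑ j, ∑ l, T.Gb j l * g (col x j) (col y l) := by
    intro x y
    simp only [g, col, dotProduct, Matrix.mulVec, Fintype.sum_prod_type, Matrix.kroneckerMap_apply, Finset.mul_sum]
    rw [Finset.sum_comm]
    refine Finset.sum_congr rfl fun j _ => ?_
    conv_rhs => rw [Finset.sum_comm]
    refine Finset.sum_congr rfl fun i _ => ?_
    rw [Finset.sum_comm]
    exact Finset.sum_congr rfl fun l _ => Finset.sum_congr rfl fun i' _ => by ring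
  have hq : ∀ x y, q₀ (x + y) = q₀ x + q₀ y + x ⬝ᵥ (T.Ga ⊗ₖ T.Gb) *ᵥ y := by
    intro x y
    have hcol : ∀ j, col (x + y) j = col x j + col y j := fun _ => rfl
    have hadd : ∀ u u' v v', g (u + u') (v + v') = g u v + g u' v' + (g u v' + g u' v) := fun u u' v v' => by
      simp only [g, add_dotProduct, Matrix.mulVec_add, dotProduct_add]; ring
    have hexp : q₀ (x + y) = q₀ x + q₀ y + ((∑ j, ∑ l, if j < l then T.Gb j l * g (col x j) (col y l) else 0) +
        ∑ j, ∑ l, if j < l then T.Gb j l * g (col y j) (col x l) else 0) := by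
      simp only [q₀, hcol, hadd, mul_add, ite_add_zero, Finset.sum_add_distrib]
    rw [hexp, hflat]
    have hswap : (∑ j, ∑ l, if j < l then T.Gb j l * g (col y j) (col x l) else 0) =
        ∑ j, ∑ l, if l < j then T.Gb j l * g (col x j) (col y l) else 0 := by
      rw [Finset.sum_comm]
      refine Finset.sum_congr rfl fun j _ => Finset.sum_congr rfl fun l _ => ?_
      rw [hg, show T.Gb l j = T.Gb j l by rw [← congrFun (congrFun T.symm j) l, Matrix.transpose_apply]]
    rw [hswap, add_right_inj, ← Finset.sum_add_distrib]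
    refine Finset.sum_congr rfl fun j _ => ?_
    rw [← Finset.sum_add_distrib]
    refine Finset.sum_congr rfl fun l _ => ?_
    rcases lt_trichotomy j l with h | h | h
    · rw [if_pos h, if_neg (not_lt.2 h.le), add_zero]
    · subst h; simp [hd]
    · rw [if_pos h, if_neg (not_lt.2 h.le), zero_add]
  have hQadd : ∀ u v, Q (u + v) = Q u + Q v + B12 u v := fun u v => by
    obtain ⟨x, rfl⟩ := T.L.surjective u
    obtain ⟨y, rfl⟩ := T.L.surjective v
    simp only [Q, ← map_add, LinearEquiv.symm_apply_apply, T.form, hq]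
  have hQsmul : ∀ (c : F) v, Q (c • v) = c ^ 2 * Q v := fun c v => by
    simp only [Q, q₀, map_smul, Finset.mul_sum]
    refine Finset.sum_congr rfl fun j _ => Finset.sum_congr rfl fun l _ => ?_
    split_ifs
    · rw [show ∀ j, col (c • T.L.symm v) j = c • col (T.L.symm v) j from fun _ => rfl,
        show ∀ j, col (c • T.L.symm v) j = c • col (T.L.symm v) j from fun _ => rfl]
      simp only [g, smul_dotProduct, Matrix.mulVec_smul, dotProduct_smul, smul_eq_mul]; ring
    · rw [mul_zero]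
  have hQpure : ∀ t u, Q (T.L (tens t u)) = 0 := fun t u => by
    simp only [Q, q₀, LinearEquiv.symm_apply_apply]
    refine Finset.sum_eq_zero fun j _ => Finset.sum_eq_zero fun l _ => ?_
    split_ifs
    · have e : ∀ j, col (tens t u) j = t j • u := fun j => funext fun i => mul_comm _ _
      simp only [g, e, smul_dotProduct, Matrix.mulVec_smul, dotProduct_smul, smul_eq_mul, T.alt, mul_zero]
    · rfl
  have hpol : ∀ u v, QuadraticMap.polar Q u v = Cfsg.sympForm 6 F u v := fun u v => by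
    rw [← MaxSub.stdAlt_apply, QuadraticMap.polar, hQadd]; ring
  have hfun : QuadraticMap.polar Q = Cfsg.sympForm 6 F := funext fun u => funext fun v => hpol u v
  have hnd : IsNondegenerateQuadraticForm Q :=
    ⟨hQsmul, hfun ▸ SympTwoPrime.sympBilinear, hfun ▸ SympTwoPrime.sympNondeg⟩
  have hle : H ≤ quadSimilarityGroup Q := by
    intro h hh
    refine ⟨1, fun v => ?_⟩
    rw [Units.val_one, one_mul]
    obtain ⟨C, D, -, -, hCD, -⟩ := T.act_form hH.1.le hh
    have hp := MaxSub.mem_spGL_iff.1 (hH.1.le hh)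
    let d : V12 →+ F :=
      { toFun := fun v => Q ((h : M12) *ᵥ v) - Q v
        map_zero' := by
          have := hQsmul 0 0
          simp at this
          simp [Matrix.mulVec_zero, this]
        map_add' := fun u v => by
          rw [Matrix.mulVec_add, hQadd, hQadd, hp u v]; ring }
    obtain ⟨x, rfl⟩ := T.L.surjective v
    have hx : x = ∑ j, tens (Pi.single j (1 : F)) (fun i => x (i, j)) := by
      funext p
      rw [Finset.sum_apply]
      show x p = ∑ j, x (p.1, j) * (Pi.single j (1 : F) : Fin b → F) p.2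
      simp [Pi.single_apply]
    have h0 : d (T.L x) = 0 := by
      rw [hx, map_sum, map_sum]
      refine Finset.sum_eq_zero fun j _ => ?_
      show Q ((h : M12) *ᵥ T.L (tens _ _)) - Q (T.L (tens _ _)) = 0
      rw [hCD, kron_tens, hQpure, hQpure, sub_zero]
    exact sub_eq_zero.1 h0
  have heq := SympTwoPrime.eq_inf_of_le hH hle (SympTwoPrime.not_le_quadSimilarityGroup (by norm_num) hnd hpol)
  exact Or.inr (Or.inr (Or.inr (Or.inr (Or.inr (Or.inr (Or.inr (Or.inr (Or.inr (Or.inr (Or.inr (Or.inr (Or.inl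
    ⟨heven, Q, hnd, hpol, heq⟩))))))))))))

end TensorData

/-- The case of three non-degenerate slices over three elements. -/
theorem TensorData.three_slices [Fintype F] (h3 : Fintype.card F = 3)
    {H : Subgroup (Matrix.GeneralLinearGroup (Fin 6 ⊕ Fin 6) F)} (T : TensorData 4 3 H)
    (hH : IsMaximalIn (Cfsg.spGL 6 F) H) : Cases H := by
  classical
  obtain ⟨t, c, hc, ht⟩ := SympTwoPrime.exists_frame_three h3 T.hGb T.symm
  have htc : ∀ i, t i ⬝ᵥ T.Gb *ᵥ t i = c := fun i => by rw [ht, if_pos rfl]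
  have ht0 : ∀ i, t i ≠ 0 := fun i h => hc (by rw [← htc i, h, zero_dotProduct])
  set M : Matrix (Fin 3) (Fin 3) F := Matrix.of fun i j => t j i with hM
  have hMG : Mᵀ * T.Gb * M = c • 1 := by
    ext i j
    have : (Mᵀ * T.Gb * M) i j = t i ⬝ᵥ T.Gb *ᵥ t j := by
      rw [Matrix.dotProduct_mulVec, Matrix.mul_apply]
      rfl
    rw [this, ht, Matrix.smul_apply, Matrix.one_apply, smul_eq_mul, mul_ite, mul_one, mul_zero]
  have hMu : IsUnit M := by
    rw [Matrix.isUnit_iff_isUnit_det, isUnit_iff_ne_zero]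
    intro h0
    have h := congrArg Matrix.det hMG
    rw [Matrix.det_mul, h0, mul_zero, Matrix.det_smul, Matrix.det_one, mul_one] at h
    exact pow_ne_zero _ hc h.symm
  obtain ⟨U, hU⟩ := hMu
  have hexp : ∀ x : Fin 3 → F, x = ∑ i, (((↑U⁻¹ : Matrix (Fin 3) (Fin 3) F) *ᵥ x) i) • t i := fun x => by
    conv_lhs => rw [← Matrix.one_mulVec x, ← Units.mul_inv U, ← Matrix.mulVec_mulVec, hU]
    funext l
    simp only [Matrix.mulVec, dotProduct, hM, Matrix.of_apply, Finset.sum_apply, Pi.smul_apply, smul_eq_mul]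
    exact Finset.sum_congr rfl fun i _ => mul_comm _ _
  set Dd : Fin 3 → Submodule F (Fin 6 ⊕ Fin 6 → F) := fun i => T.slice (t i) with hDd
  have horth : ∀ i j, i ≠ j → AreOrthogonalFor (Cfsg.sympForm 6 F) (Dd i) (Dd j) := by
    rintro i j hij _ ⟨u, rfl⟩ _ ⟨u', rfl⟩
    rw [← MaxSub.stdAlt_apply]
    show B12 (T.L (tens (t i) u)) (T.L (tens (t j) u')) = 0
    rw [T.form_tens, ht, if_neg hij, mul_zero]
  have hnd : ∀ i, IsNondegenerateOn (Cfsg.sympForm 6 F) (Dd i) := fun i => T.slice_nd (by rw [htc]; exact hc)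
  have hdec : IsMDecomposition 4 Dd := by
    refine ⟨by norm_num, by norm_num, fun i => T.finrank_slice (ht0 i), ?_, ?_⟩
    · intro i
      rw [disjoint_iff, eq_bot_iff]
      intro x hx
      obtain ⟨hxi, hxr⟩ := Submodule.mem_inf.1 hx
      rw [Submodule.mem_bot]
      by_contra hx0
      obtain ⟨⟨y, hy, hyx⟩, -⟩ := hnd i x hxi hx0
      have hle : ⨆ (j : Fin 3) (_ : j ≠ i), Dd j ≤ LinearMap.ker (B12 y) :=
        iSup₂_le fun j hj w hw => by
          rw [LinearMap.mem_ker, MaxSub.stdAlt_apply]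
          exact horth i j (Ne.symm hj) y hy w hw
      apply hyx
      rw [← MaxSub.stdAlt_apply]
      exact hle hxr
    · rw [eq_top_iff]
      intro v _
      obtain ⟨x, rfl⟩ := T.L.surjective v
      have hx : x = ∑ i, tens (t i) (fun r => ((↑U⁻¹ : Matrix (Fin 3) (Fin 3) F) *ᵥ fun j => x (r, j)) i) := by
        funext p
        have := congrFun (hexp fun j => x (p.1, j)) p.2
        rw [Finset.sum_apply]
        simp only [Finset.sum_apply, Pi.smul_apply, smul_eq_mul] at this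
        exact this
      rw [hx, map_sum]
      exact Submodule.sum_mem _ fun i _ => Submodule.mem_iSup_of_mem i ⟨_, rfl⟩
  have hsq3 : ∀ x : F, x ≠ 0 → x * x = 1 := fun x hx => by
    have h := FiniteField.pow_card_sub_one_eq_one x hx
    rw [h3] at h
    rw [← h]; ring
  have hle : H ≤ decompositionStabilizer Dd := by
    intro h hh
    obtain ⟨C, D, μ, hμ, hCD, hD⟩ := T.act_form hH.1.le hh
    set d : Fin 3 → Fin 3 → F := fun i => (↑U⁻¹ : Matrix (Fin 3) (Fin 3) F) *ᵥ ((D : Matrix (Fin 3) (Fin 3) F) *ᵥ t i)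
    have hDt : ∀ i, (D : Matrix (Fin 3) (Fin 3) F) *ᵥ t i = ∑ l, d i l • t l := fun i => hexp _
    have hcol : ∀ i j, d i ⬝ᵥ d j = if i = j then μ else 0 := by
      intro i j
      have h := hD (t i) (t j)
      rw [hDt i, hDt j, Matrix.mulVec_sum, sum_dotProduct, ht] at h
      simp only [dotProduct_sum, smul_dotProduct, Matrix.mulVec_smul, dotProduct_smul, smul_eq_mul, ht, mul_ite,
        mul_zero, Finset.sum_ite_eq, Finset.mem_univ, if_true] at h
      refine mul_right_cancel₀ hc ?_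
      rw [ite_mul, zero_mul, ← h]
      simp only [dotProduct, Finset.mul_sum, Finset.sum_mul]
      exact Finset.sum_congr rfl fun l _ => by ring
    have hμ1 : μ = 1 := by
      let N : Matrix (Fin 3) (Fin 3) F := Matrix.of d
      have hN : N * Nᵀ = μ • 1 := by
        ext i j
        rw [Matrix.smul_apply, Matrix.one_apply, smul_eq_mul, mul_ite, mul_one, mul_zero]
        exact hcol i j
      have h := congrArg Matrix.det hN
      rw [Matrix.det_mul, Matrix.det_transpose, Matrix.det_smul, Matrix.det_one, mul_one, Fintype.card_fin] at h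
      have hdN : N.det ≠ 0 := fun h0 => by rw [h0, mul_zero] at h; exact pow_ne_zero _ hμ h.symm
      linear_combination (hsq3 _ hdN) - h - μ * (hsq3 _ hμ)
    simp only [hμ1] at hcol
    choose σ hσ hσ0 using fun i => SympTwoPrime.monomial_three h3 (d i) (by rw [hcol, if_pos rfl])
    have hσinj : Function.Injective σ := by
      intro i j hij
      by_contra hne
      have h := hcol i j
      rw [if_neg hne, dotProduct, Finset.sum_eq_single (σ i) (fun l _ hl => by rw [hσ0 i l hl, zero_mul])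
        (fun hn => absurd (Finset.mem_univ _) hn)] at h
      rcases mul_eq_zero.1 h with h | h
      · exact hσ i h
      · exact hσ j (hij ▸ h)
    refine ⟨Equiv.ofBijective σ (Finite.injective_iff_bijective.1 hσinj), fun i => ?_⟩
    rw [Equiv.ofBijective_apply]
    refine T.map_slice hCD (ht0 i) (ht0 _) (ρ := d i (σ i)) ?_
    rw [hDt i, Finset.sum_eq_single (σ i) (fun l _ hl => by rw [hσ0 i l hl, zero_smul])
      (fun hn => absurd (Finset.mem_univ _) hn)]
  exact Or.inr (Or.inr (Or.inr (Or.inl ⟨Dd, ⟨hdec, hnd, horth⟩,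
    SympTwoPrime.eq_inf_of_le hH hle (SympTwoPrime.not_le_decompositionStabilizer (by norm_num) hdec)⟩)))

/-- Two copies of a six-dimensional module: a pair of totally singular halves or a normalised quadratic field. -/
theorem TensorData.two_copies [Fintype F] (h2 : (2 : F) ≠ 0) (hq : Odd (Fintype.card F))
    {H : Subgroup (Matrix.GeneralLinearGroup (Fin 6 ⊕ Fin 6) F)} (T : TensorData 6 2 H)
    (hH : IsMaximalIn (Cfsg.spGL 6 F) H) :
    Cases H ∨ ∃ K : Subalgebra F M12, IsFieldSubalgebra 2 K ∧ IsAdjointClosedFor (Cfsg.sympForm 6 F) K ∧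
      ∀ h ∈ H, h ∈ subalgebraNormalizer K := by
  classical
  by_cases hiso : ∃ v : Fin 2 → F, v ≠ 0 ∧ v ⬝ᵥ T.Gb *ᵥ v = 0
  · left
    obtain ⟨v₁, hv₁, h11⟩ := hiso
    obtain ⟨y, hy⟩ : ∃ y, v₁ ⬝ᵥ T.Gb *ᵥ y = 1 := by
      obtain ⟨y, hy⟩ : ∃ y, v₁ ⬝ᵥ T.Gb *ᵥ y ≠ 0 := by
        by_contra hc
        simp only [not_exists, not_not] at hc
        have h0 : v₁ ᵥ* T.Gb = 0 := dotProduct_eq_zero _ fun x => by rw [← Matrix.dotProduct_mulVec]; exact hc x
        exact hv₁ (Matrix.vecMul_injective_iff_isUnit.2 T.hGb (by simp only [h0, Matrix.zero_vecMul]))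
      exact ⟨(v₁ ⬝ᵥ T.Gb *ᵥ y)⁻¹ • y, by rw [Matrix.mulVec_smul, dotProduct_smul, smul_eq_mul, inv_mul_cancel₀ hy]⟩
    set v₂ : Fin 2 → F := y - ((y ⬝ᵥ T.Gb *ᵥ y) / 2) • v₁ with hv₂d
    have h12 : v₁ ⬝ᵥ T.Gb *ᵥ v₂ = 1 := by
      rw [hv₂d, Matrix.mulVec_sub, Matrix.mulVec_smul, dotProduct_sub, dotProduct_smul, hy, h11, smul_zero, sub_zero]
    have h22 : v₂ ⬝ᵥ T.Gb *ᵥ v₂ = 0 := by
      rw [hv₂d]
      simp only [Matrix.mulVec_sub, Matrix.mulVec_smul, dotProduct_sub, sub_dotProduct, smul_dotProduct,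
        dotProduct_smul, smul_eq_mul, h11, hy, T.comm_b y v₁]
      field_simp
      ring
    have h21 : v₂ ⬝ᵥ T.Gb *ᵥ v₁ = 1 := by rw [T.comm_b]; exact h12
    have hv₂ : v₂ ≠ 0 := fun h => by rw [h, Matrix.mulVec_zero, dotProduct_zero] at h12; exact zero_ne_one h12
    have hind : ∀ a b : F, a • v₁ + b • v₂ = 0 → a = 0 ∧ b = 0 := fun a b hab => by
      have e1 := congrArg (fun x => v₂ ⬝ᵥ T.Gb *ᵥ x) hab
      have e2 := congrArg (fun x => v₁ ⬝ᵥ T.Gb *ᵥ x) hab
      simp only [Matrix.mulVec_add, Matrix.mulVec_smul, dotProduct_add, dotProduct_smul, smul_eq_mul, h22, h11, h12,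
        h21, mul_one, mul_zero, add_zero, zero_add, Matrix.mulVec_zero, dotProduct_zero] at e1 e2
      exact ⟨e1, e2⟩
    have hexp : ∀ x : Fin 2 → F, x = (x ⬝ᵥ T.Gb *ᵥ v₂) • v₁ + (x ⬝ᵥ T.Gb *ᵥ v₁) • v₂ := by
      intro x
      set z := x - ((x ⬝ᵥ T.Gb *ᵥ v₂) • v₁ + (x ⬝ᵥ T.Gb *ᵥ v₁) • v₂) with hz
      have e1 : z ⬝ᵥ T.Gb *ᵥ v₁ = 0 := by
        simp only [hz, sub_dotProduct, add_dotProduct, smul_dotProduct, smul_eq_mul, h11, h21]; ring
      have e2 : z ⬝ᵥ T.Gb *ᵥ v₂ = 0 := by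
        simp only [hz, sub_dotProduct, add_dotProduct, smul_dotProduct, smul_eq_mul, h12, h22]; ring
      have hli : LinearIndependent F ![v₁, v₂] := LinearIndependent.pair_iff.2 hind
      have hspan : Submodule.span F (Set.range ![v₁, v₂]) = ⊤ := by
        refine Submodule.eq_top_of_finrank_eq ?_
        rw [finrank_span_eq_card hli, Module.finrank_fintype_fun_eq_card]
      have h0 : z ᵥ* T.Gb = 0 := dotProduct_eq_zero _ fun w => by
        have hw : w ∈ Submodule.span F (Set.range ![v₁, v₂]) := hspan ▸ Submodule.mem_top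
        induction hw using Submodule.span_induction with
        | mem u hu =>
          obtain ⟨i, rfl⟩ := hu
          fin_cases i
          · show z ᵥ* T.Gb ⬝ᵥ v₁ = 0
            rw [← Matrix.dotProduct_mulVec]; exact e1
          · show z ᵥ* T.Gb ⬝ᵥ v₂ = 0
            rw [← Matrix.dotProduct_mulVec]; exact e2
        | zero => simp
        | add u u' _ _ hu hu' => rw [dotProduct_add, hu, hu', add_zero]
        | smul a u _ hu => rw [dotProduct_smul, hu, smul_zero]
      have hz0 : z = 0 := Matrix.vecMul_injective_iff_isUnit.2 T.hGb (by simp only [h0, Matrix.zero_vecMul])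
      exact sub_eq_zero.1 (hz ▸ hz0)
    have hline : ∀ x : Fin 2 → F, x ⬝ᵥ T.Gb *ᵥ x = 0 → (∃ c : F, x = c • v₁) ∨ ∃ c : F, x = c • v₂ := by
      intro x hx
      have e : 2 * ((x ⬝ᵥ T.Gb *ᵥ v₂) * (x ⬝ᵥ T.Gb *ᵥ v₁)) = 0 := by
        have hh := hx
        rw [hexp x] at hh
        simp only [Matrix.mulVec_add, Matrix.mulVec_smul, dotProduct_add, add_dotProduct, smul_dotProduct,
          dotProduct_smul, smul_eq_mul, h11, h12, h21, h22] at hh
        linear_combination hh
      rcases mul_eq_zero.1 ((mul_eq_zero.1 e).resolve_left h2) with h | h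
      · exact Or.inr ⟨x ⬝ᵥ T.Gb *ᵥ v₁, by conv_lhs => rw [hexp x, h, zero_smul, zero_add]⟩
      · exact Or.inl ⟨x ⬝ᵥ T.Gb *ᵥ v₂, by conv_lhs => rw [hexp x, h, zero_smul, add_zero]⟩
    set Dd : Fin 2 → Submodule F (Fin 6 ⊕ Fin 6 → F) := ![T.slice v₁, T.slice v₂] with hDd
    have hts : ∀ i, IsTotallySingularFor (Cfsg.sympForm 6 F) (Dd i) := by
      intro i; fin_cases i
      · exact T.slice_ts h11
      · exact T.slice_ts h22
    have hsup : T.slice v₁ ⊔ T.slice v₂ = ⊤ := by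
      rw [eq_top_iff]
      intro v _
      obtain ⟨x, rfl⟩ := T.L.surjective v
      have hx : x = tens v₁ (fun r => (fun j => x (r, j)) ⬝ᵥ T.Gb *ᵥ v₂) +
          tens v₂ (fun r => (fun j => x (r, j)) ⬝ᵥ T.Gb *ᵥ v₁) := by
        funext p
        have := congrFun (hexp fun j => x (p.1, j)) p.2
        simp only [Pi.add_apply, Pi.smul_apply, smul_eq_mul] at this
        exact this
      rw [hx, map_add]
      exact Submodule.add_mem_sup ⟨_, rfl⟩ ⟨_, rfl⟩
    have hinf : T.slice v₁ ⊓ T.slice v₂ = ⊥ := by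
      have h := Submodule.finrank_sup_add_finrank_inf_eq (T.slice v₁) (T.slice v₂)
      rw [hsup, finrank_top, T.finrank_slice hv₁, T.finrank_slice hv₂, Module.finrank_fintype_fun_eq_card,
        Fintype.card_sum, Fintype.card_fin] at h
      exact Submodule.finrank_eq_zero.1 (by omega)
    have hdec : IsMDecomposition 6 Dd := by
      refine ⟨le_rfl, by norm_num, fun i => ?_, ?_, ?_⟩
      · fin_cases i
        · exact T.finrank_slice hv₁
        · exact T.finrank_slice hv₂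
      · intro i
        rw [disjoint_iff, eq_bot_iff, ← hinf]
        fin_cases i
        · exact inf_le_inf le_rfl (iSup₂_le fun j hj => by
            fin_cases j
            · exact absurd rfl hj
            · exact le_rfl)
        · rw [inf_comm (T.slice v₁)]
          exact inf_le_inf le_rfl (iSup₂_le fun j hj => by
            fin_cases j
            · exact le_rfl
            · exact absurd rfl hj)
      · rw [eq_top_iff, ← hsup]
        exact sup_le (le_iSup Dd 0) (le_iSup Dd 1)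
    have hle : H ≤ decompositionStabilizer Dd := by
      intro h hh
      obtain ⟨C, D, μ, hμ, hCD, hD⟩ := T.act_form hH.1.le hh
      have hne : ∀ x, x ≠ 0 → (D : Matrix (Fin 2) (Fin 2) F) *ᵥ x ≠ 0 := fun x hx h0 =>
        hx (Matrix.mulVec_injective_iff_isUnit.2 D.isUnit (h0.trans (Matrix.mulVec_zero _).symm))
      have hD11 : ((D : Matrix (Fin 2) (Fin 2) F) *ᵥ v₁) ⬝ᵥ T.Gb *ᵥ ((D : Matrix (Fin 2) (Fin 2) F) *ᵥ v₁) = 0 := by
        rw [hD, h11, mul_zero]
      have hD22 : ((D : Matrix (Fin 2) (Fin 2) F) *ᵥ v₂) ⬝ᵥ T.Gb *ᵥ ((D : Matrix (Fin 2) (Fin 2) F) *ᵥ v₂) = 0 := by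
        rw [hD, h22, mul_zero]
      have hD12 : ((D : Matrix (Fin 2) (Fin 2) F) *ᵥ v₁) ⬝ᵥ T.Gb *ᵥ ((D : Matrix (Fin 2) (Fin 2) F) *ᵥ v₂) = μ := by
        rw [hD, h12, mul_one]
      rcases hline _ hD11 with ⟨c, hc⟩ | ⟨c, hc⟩
      · rcases hline _ hD22 with ⟨c', hc'⟩ | ⟨c', hc'⟩
        · exfalso
          rw [hc, hc', Matrix.mulVec_smul, smul_dotProduct, dotProduct_smul, h11, smul_zero, smul_zero] at hD12
          exact hμ hD12.symm
        · refine ⟨1, fun i => ?_⟩
          fin_cases i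
          · exact T.map_slice hCD hv₁ hv₁ hc
          · exact T.map_slice hCD hv₂ hv₂ hc'
      · rcases hline _ hD22 with ⟨c', hc'⟩ | ⟨c', hc'⟩
        · refine ⟨Equiv.swap 0 1, fun i => ?_⟩
          fin_cases i
          · exact T.map_slice hCD hv₁ hv₂ hc
          · exact T.map_slice hCD hv₂ hv₁ hc'
        · exfalso
          rw [hc, hc', Matrix.mulVec_smul, smul_dotProduct, dotProduct_smul, h22, smul_zero, smul_zero] at hD12
          exact hμ hD12.symm
    exact Or.inr (Or.inr (Or.inr (Or.inr (Or.inr (Or.inl ⟨hq, Dd, hdec, hts,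
      SympTwoPrime.eq_inf_of_le hH hle (SympTwoPrime.not_le_decompositionStabilizer (by norm_num) hdec)⟩)))))
  -- the anisotropic case: a field of degree two
  right
  simp only [not_exists, not_and] at hiso
  set p := T.Gb 0 0 with hp
  set r := T.Gb 0 1 with hr
  set s := T.Gb 1 1 with hs
  have h10 : T.Gb 1 0 = r := by rw [hr, ← congrFun (congrFun T.symm 0) 1, Matrix.transpose_apply]
  set σ : Matrix (Fin 2) (Fin 2) F := !![r, s; -p, -r] with hσ
  set δ : F := r * r - p * s with hδ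
  have hns : ∀ x : F, x * x ≠ δ := by
    intro x hx
    by_cases hs0 : s = 0
    · refine hiso ![0, 1] (fun h => by simpa using congrFun h 1) ?_
      simp [Matrix.mulVec, dotProduct, Fin.sum_univ_two, ← hs, hs0]
    · refine hiso ![s, x - r] (fun h => hs0 (by simpa using congrFun h 0)) ?_
      simp [Matrix.mulVec, dotProduct, Fin.sum_univ_two, ← hp, ← hr, h10, ← hs]
      linear_combination s * hx
  let Sl : (Fin 6 ⊕ Fin 6 → F) →ₗ[F] (Fin 6 ⊕ Fin 6 → F) :=
    T.L.toLinearMap ∘ₗ Matrix.toLin' ((1 : Matrix (Fin 6) (Fin 6) F) ⊗ₖ σ) ∘ₗ T.L.symm.toLinearMap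
  set S : M12 := LinearMap.toMatrix' Sl with hS
  have hSL : ∀ x, S *ᵥ T.L x = T.L (((1 : Matrix (Fin 6) (Fin 6) F) ⊗ₖ σ) *ᵥ x) := fun x => by
    rw [hS, ← Matrix.toLin'_apply, Matrix.toLin'_toMatrix']
    simp [Sl, Matrix.toLin'_apply]
  have hext : ∀ {X Y : M12}, (∀ x, X *ᵥ T.L x = Y *ᵥ T.L x) → X = Y := fun {X Y} h =>
    MaxSub.eq_of_mulVec_eq fun v => by
      obtain ⟨x, rfl⟩ := T.L.surjective v
      exact h x
  have hσ2 : σ * σ = δ • 1 := by
    ext i j
    fin_cases i <;> fin_cases j <;> simp [hσ, hδ, Matrix.mul_apply, Fin.sum_univ_two] <;> ring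
  have hS2 : S * S = δ • (1 : M12) := hext fun x => by
    rw [← Matrix.mulVec_mulVec, hSL, hSL, Matrix.mulVec_mulVec, ← Matrix.mul_kronecker_mul, one_mul, hσ2,
      Matrix.kronecker_smul, Matrix.one_kronecker_one, Matrix.smul_mulVec, Matrix.one_mulVec, map_smul,
      Matrix.smul_mulVec, Matrix.one_mulVec]
  have hσG : σᵀ * T.Gb = -(T.Gb * σ) := by
    ext i j
    fin_cases i <;> fin_cases j <;>
      simp [hσ, Matrix.mul_apply, Fin.sum_univ_two, ← hp, ← hr, h10, ← hs] <;> ring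
  have hadj : ∀ u v, B12 (S *ᵥ u) v = - B12 u (S *ᵥ v) := fun u v => by
    obtain ⟨x, rfl⟩ := T.L.surjective u
    obtain ⟨y, rfl⟩ := T.L.surjective v
    have e : ((1 : Matrix (Fin 6) (Fin 6) F) ⊗ₖ σ)ᵀ * (T.Ga ⊗ₖ T.Gb) =
        -((T.Ga ⊗ₖ T.Gb) * ((1 : Matrix (Fin 6) (Fin 6) F) ⊗ₖ σ)) := by
      rw [← Matrix.kroneckerMap_transpose, Matrix.transpose_one, ← Matrix.mul_kronecker_mul,
        ← Matrix.mul_kronecker_mul, one_mul, mul_one, hσG]
      ext q q'
      simp
    rw [hSL, hSL, T.form, T.form, ← Matrix.vecMul_transpose, ← Matrix.dotProduct_mulVec, Matrix.mulVec_mulVec,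
      e, Matrix.neg_mulVec, dotProduct_neg, Matrix.mulVec_mulVec]
  have hconj : ∀ h ∈ H, ∃ c : F, (h : M12) * S * ((h⁻¹ : G12) : M12) = c • S := by
    intro h hh
    obtain ⟨C, D, μ, hμ, hCD, hD⟩ := T.act_form hH.1.le hh
    set Dm : Matrix (Fin 2) (Fin 2) F := (D : Matrix (Fin 2) (Fin 2) F) with hDm
    have hdet : Dm.det ≠ 0 := ((Matrix.isUnit_iff_isUnit_det _).1 D.isUnit).ne_zero
    have hDG : Dmᵀ * T.Gb * Dm = μ • T.Gb := SympTwoPrime.ext_dot fun v w => by
      rw [← Matrix.mulVec_mulVec, ← Matrix.mulVec_mulVec, Matrix.dotProduct_mulVec, Matrix.vecMul_transpose, hD,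
        Matrix.smul_mulVec, dotProduct_smul, smul_eq_mul]
    have hadjD : Dm.det • (T.Gb.adjugate * Dm.adjugateᵀ) = μ • (Dm * T.Gb.adjugate) := by
      have h := congrArg Matrix.adjugate hDG
      rw [Matrix.adjugate_mul_distrib, Matrix.adjugate_mul_distrib, Matrix.adjugate_smul, Fintype.card_fin,
        ← Matrix.adjugate_transpose] at h
      have h' := congrArg (fun X => Dm * X) h
      simp only [← mul_assoc, Matrix.mul_adjugate, Matrix.smul_mul, one_mul, Matrix.mul_smul] at h'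
      simpa using h'
    have hσeq : σ = T.Gb.adjugate * !![0, 1; -1, 0] := by
      ext i j
      fin_cases i <;> fin_cases j <;>
        simp [hσ, Matrix.adjugate_fin_two, Matrix.mul_apply, Fin.sum_univ_two, ← hp, ← hr, h10, ← hs]
    have hJ : (!![0, 1; -1, 0] : Matrix (Fin 2) (Fin 2) F) * Dm = Dm.adjugateᵀ * !![0, 1; -1, 0] := by
      ext i j
      fin_cases i <;> fin_cases j <;> simp [Matrix.adjugate_fin_two, Matrix.mul_apply, Fin.sum_univ_two]
    have hc : Dm * σ = (Dm.det / μ) • (σ * Dm) := by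
      rw [hσeq, mul_assoc T.Gb.adjugate, hJ, ← mul_assoc, ← mul_assoc, ← Matrix.smul_mul, div_eq_inv_mul, ← smul_smul,
        hadjD, inv_smul_smul₀ hμ]
    refine ⟨Dm.det / μ, ?_⟩
    have hS' : (h : M12) * S = ((Dm.det / μ) • S) * (h : M12) := hext fun x => by
      rw [Matrix.smul_mul, Matrix.smul_mulVec, ← Matrix.mulVec_mulVec, ← Matrix.mulVec_mulVec, hSL, hCD, hCD, hSL,
        ← map_smul, Matrix.mulVec_mulVec, Matrix.mulVec_mulVec, ← Matrix.mul_kronecker_mul, ← Matrix.mul_kronecker_mul,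
        one_mul, mul_one, ← Matrix.smul_mulVec, hc, Matrix.kronecker_smul]
    rw [hS', mul_assoc, Units.mul_inv, mul_one]
  let K : Subalgebra F M12 :=
    { carrier := {X | ∃ α β : F, X = α • (1 : M12) + β • S}
      mul_mem' := by
        rintro _ _ ⟨α, β, rfl⟩ ⟨α', β', rfl⟩
        refine ⟨α * α' + β * β' * δ, α * β' + β * α', ?_⟩
        simp only [add_mul, mul_add, Matrix.smul_mul, Matrix.mul_smul, one_mul, mul_one, hS2, smul_smul, add_smul]
        module
      add_mem' := by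
        rintro _ _ ⟨α, β, rfl⟩ ⟨α', β', rfl⟩
        exact ⟨α + α', β + β', by rw [add_smul, add_smul]; abel⟩
      algebraMap_mem' := fun c => ⟨c, 0, by rw [Algebra.algebraMap_eq_smul_one, zero_smul, add_zero]⟩ }
  have hK : ∀ X, X ∈ K ↔ ∃ α β : F, X = α • (1 : M12) + β • S := fun _ => Iff.rfl
  have hscalar : ∀ α β : F, α • (1 : M12) + β • S = 0 → α = 0 ∧ β = 0 := by
    intro α β h
    have hβ : β = 0 := by
      by_contra hβ
      have hSc : S = (-(α / β)) • (1 : M12) := by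
        have := congrArg (fun X => β⁻¹ • X) h
        simp only [smul_add, smul_smul, inv_mul_cancel₀ hβ, one_smul, smul_zero] at this
        rw [neg_smul, eq_neg_iff_add_eq_zero, add_comm, div_eq_inv_mul]
        exact this
      have h2' := hS2
      rw [hSc, Matrix.smul_mul, one_mul, smul_smul] at h2'
      have := congrFun (congrFun h2' (Sum.inl 0)) (Sum.inl 0)
      simp at this
      exact hns (α / β) (by linear_combination this)
    refine ⟨?_, hβ⟩
    rw [hβ, zero_smul, add_zero] at h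
    simpa using congrFun (congrFun h (Sum.inl 0)) (Sum.inl 0)
  have hnorm : ∀ h ∈ H, ∀ X ∈ K, (h : M12) * X * ((h⁻¹ : G12) : M12) ∈ K := by
    rintro h hh _ ⟨α, β, rfl⟩
    obtain ⟨c, hc⟩ := hconj h hh
    refine ⟨α, β * c, ?_⟩
    rw [mul_add, add_mul, Matrix.mul_smul, mul_one, Matrix.smul_mul, Units.mul_inv, Matrix.mul_smul, Matrix.smul_mul,
      hc, smul_smul]
  refine ⟨K, ⟨?_, ?_, ?_⟩, ?_, fun h hh X => ⟨hnorm h hh X, fun hX => ?_⟩⟩
  · rintro _ ⟨α, β, rfl⟩ _ ⟨α', β', rfl⟩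
    simp only [add_mul, mul_add, Matrix.smul_mul, Matrix.mul_smul, one_mul, mul_one, smul_smul]
    module
  · rintro _ ⟨α, β, rfl⟩ hne
    have hN : α * α - β * β * δ ≠ 0 := by
      intro h0
      by_cases hβ : β = 0
      · subst hβ
        have : α = 0 := mul_self_eq_zero.1 (by linear_combination h0)
        exact hne (by rw [this, zero_smul, zero_smul, add_zero])
      · exact hns (α / β) (by field_simp; linear_combination h0)
    refine ⟨(α / (α * α - β * β * δ)) • 1 + (-β / (α * α - β * β * δ)) • S, ⟨_, _, rfl⟩, ?_⟩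
    simp only [add_mul, mul_add, Matrix.smul_mul, Matrix.mul_smul, one_mul, mul_one, hS2, smul_smul]
    have e : ∀ a b c d : F, a + d = 1 → b + c = 0 →
        a • (1 : M12) + b • S + (c • S + d • (1 : M12)) = 1 := fun a b c d h1 h2 => by
      calc _ = (a + d) • (1 : M12) + (b + c) • S := by rw [add_smul, add_smul]; abel
        _ = 1 := by rw [h1, h2, one_smul, zero_smul, add_zero]
    refine e _ _ _ _ ?_ ?_
    · simp only [div_eq_mul_inv]
      linear_combination mul_inv_cancel₀ hN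
    · simp only [div_eq_mul_inv]
      ring
  · let φ : F × F →ₗ[F] K :=
      { toFun := fun z => ⟨z.1 • (1 : M12) + z.2 • S, _, _, rfl⟩
        map_add' := fun z w => Subtype.ext (by simp only [Prod.fst_add, Prod.snd_add, add_smul]; push_cast; abel)
        map_smul' := fun c z => Subtype.ext (by simp [smul_smul]) }
    have hbij : Function.Bijective φ := by
      refine ⟨(injective_iff_map_eq_zero φ).2 fun z hz => ?_, fun X => ?_⟩
      rotate_left
      · obtain ⟨α, β, hX⟩ := (hK _).1 X.2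
        exact ⟨(α, β), Subtype.ext hX.symm⟩
      obtain ⟨h1, h2⟩ := hscalar z.1 z.2 (congrArg Subtype.val hz)
      exact Prod.ext h1 h2
    rw [← (LinearEquiv.ofBijective φ hbij).finrank_eq, Module.finrank_prod, Module.finrank_self]
  · rintro _ ⟨α, β, rfl⟩
    refine ⟨α • 1 + (-β) • S, ⟨_, _, rfl⟩, fun u v => ?_⟩
    simp only [← MaxSub.stdAlt_apply, Matrix.add_mulVec, Matrix.smul_mulVec, Matrix.one_mulVec, map_add, map_smul,
      LinearMap.add_apply, LinearMap.smul_apply, smul_eq_mul, hadj u v]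
    ring
  · have := hnorm h⁻¹ (H.inv_mem hh) _ hX
    simpa [mul_assoc] using this

/-- A homogeneous normal subgroup with scalar endomorphisms gives tensor data. -/
theorem exists_tensorData [Fintype F] {H N : Subgroup G12} (hHsp : H ≤ Cfsg.spGL 6 F) (hNle : N ≤ H)
    (hNG : ∀ h ∈ H, ∀ x ∈ N, h * x * h⁻¹ ∈ N) {d k : ℕ} (hdk : d * k = 12) (hd : 1 < d) (hk : 1 < k)
    (A : N → Matrix (Fin d) (Fin d) F)
    (hirr : ∀ U : Submodule F (Fin d → F), (∀ n, ∀ u ∈ U, A n *ᵥ u ∈ U) → U = ⊥ ∨ U = ⊤)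
    (hscal : ∀ M : Matrix (Fin d) (Fin d) F, (∀ n, M * A n = A n * M) → ∃ c : F, M = c • 1)
    (φ : Fin k → (Fin d → F) →ₗ[F] (Fin 6 ⊕ Fin 6 → F))
    (hequiv : ∀ j (n : N) x, ((n : G12) : M12) *ᵥ φ j x = φ j (A n *ᵥ x))
    (hbij : Function.Bijective (assemble φ)) :
    ∃ a b : ℕ, a * b = 12 ∧ 1 < a ∧ 1 < b ∧ Nonempty (TensorData a b H) := by
  classical
  set B := B12 with hB
  have hφinj : ∀ j, Function.Injective (φ j) := fun j x y hxy => by
    have h := hbij.1 (a₁ := Pi.single j x) (a₂ := Pi.single j y) (by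
      have e : ∀ v, assemble φ (Pi.single j v) = φ j v := fun v => by
        show ∑ l, φ l (Pi.single (M := fun _ => Fin d → F) j v l) = φ j v
        rw [Finset.sum_eq_single j (fun l _ hl => by rw [Pi.single_eq_of_ne hl, map_zero])
          (fun hn => absurd (Finset.mem_univ _) hn), Pi.single_eq_same]
      rw [e, e, hxy])
    simpa using congrFun h j
  have hAu : ∀ n : N, IsUnit (A n) := fun n => by
    rw [← Matrix.mulVec_injective_iff_isUnit]
    intro x y hxy
    apply hφinj ⟨0, by omega⟩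
    apply Matrix.mulVec_injective_iff_isUnit.2 (n : G12).isUnit
    show ((n : G12) : M12) *ᵥ _ = ((n : G12) : M12) *ᵥ _
    rw [hequiv, hequiv]
    exact congrArg _ hxy
  set M : Fin k → Fin k → Matrix (Fin d) (Fin d) F := fun i j =>
    LinearMap.BilinForm.toMatrix' (B.compl₁₂ (φ i) (φ j)) with hMdef
  have hM : ∀ i j x y, B (φ i x) (φ j y) = x ⬝ᵥ M i j *ᵥ y := fun i j x y => by
    rw [← Matrix.toBilin'_apply', hMdef, Matrix.toBilin'_toMatrix']
    rfl
  have hinv : ∀ i j n, (A n)ᵀ * M i j * A n = M i j := fun i j n => SympTwoPrime.ext_dot fun x y => by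
    rw [← hM, ← Matrix.mulVec_mulVec, ← Matrix.mulVec_mulVec, Matrix.dotProduct_mulVec, Matrix.vecMul_transpose,
      ← hM, ← hequiv, ← hequiv]
    exact MaxSub.mem_spGL_iff.1 (hHsp (hNle n.2)) _ _
  have hflat : ∀ v w : Fin k → Fin d → F, B (assemble φ v) (assemble φ w) = ∑ i, ∑ j, v i ⬝ᵥ M i j *ᵥ w j := by
    intro v w
    show B (∑ i, φ i (v i)) (∑ j, φ j (w j)) = _
    rw [LinearMap.map_sum₂]
    refine Finset.sum_congr rfl fun i _ => ?_
    rw [map_sum]
    exact Finset.sum_congr rfl fun j _ => hM i j _ _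
  have hpart : ∀ v : V12, v ≠ 0 → ∃ u : Fin k → Fin d → F, B (assemble φ u) v ≠ 0 := fun v hv => by
    obtain ⟨x, hx⟩ := SympTwoPrime.sympPartner hv
    obtain ⟨u, rfl⟩ := hbij.2 x
    exact ⟨u, by rw [hB, MaxSub.stdAlt_apply]; exact hx⟩
  obtain ⟨i₀, j₀, hne⟩ : ∃ i j, M i j ≠ 0 := by
    by_contra hcon
    push Not at hcon
    obtain ⟨u, hu⟩ := hpart (Pi.single (Sum.inl 0) 1) (fun h => by simpa using congrFun h (Sum.inl 0))
    obtain ⟨w, hw⟩ := hbij.2 (Pi.single (Sum.inl (0 : Fin 6)) (1 : F))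
    apply hu
    rw [← hw, hflat]
    simp [hcon]
  set g := M i₀ j₀ with hg
  have hgu : IsUnit g := by
    rw [← Matrix.mulVec_injective_iff_isUnit]
    have hker : LinearMap.ker (Matrix.toLin' g) = ⊥ := by
      refine (hirr _ fun n u hu => ?_).resolve_right fun htop => hne ?_
      · rw [LinearMap.mem_ker, Matrix.toLin'_apply] at hu ⊢
        refine Matrix.mulVec_injective_iff_isUnit.2 ((Matrix.isUnit_transpose _).2 (hAu n)) ?_
        rw [Matrix.mulVec_zero, Matrix.mulVec_mulVec, Matrix.mulVec_mulVec, hinv, hu]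
      · refine Matrix.toLin'.injective ?_
        rw [map_zero]
        exact LinearMap.ker_eq_top.1 htop
    intro u w huw
    exact LinearMap.ker_eq_bot.1 hker (by rwa [Matrix.toLin'_apply, Matrix.toLin'_apply])
  obtain ⟨U, hU⟩ := hgu
  have hmult : ∀ X : Matrix (Fin d) (Fin d) F, (∀ n, (A n)ᵀ * X * A n = X) → ∃ c : F, X = c • g := by
    intro X hX
    obtain ⟨c, hc⟩ := hscal ((↑U⁻¹ : Matrix (Fin d) (Fin d) F) * X) fun n => by
      set Mx := (↑U⁻¹ : Matrix (Fin d) (Fin d) F) * X with hMx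
      have hgM : g * Mx = X := by rw [hMx, ← mul_assoc, ← hU, Units.mul_inv, one_mul]
      refine (hU ▸ U.isUnit).mul_left_cancel (((Matrix.isUnit_transpose _).2 (hAu n)).mul_left_cancel ?_)
      calc (A n)ᵀ * (g * (Mx * A n)) = (A n)ᵀ * (g * Mx) * A n := by simp only [mul_assoc]
        _ = X := by rw [hgM, hX n]
        _ = (A n)ᵀ * g * A n * Mx := by rw [hinv i₀ j₀ n, hgM]
        _ = (A n)ᵀ * (g * (A n * Mx)) := by simp only [mul_assoc]
    refine ⟨c, ?_⟩
    have h := congrArg (fun Y => (U : Matrix (Fin d) (Fin d) F) * Y) hc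
    simp only [← mul_assoc, Units.mul_inv, one_mul, Matrix.mul_smul, mul_one] at h
    rw [h, hU]
  choose β hβ using fun i j => hmult _ (hinv i j)
  set Bm : Matrix (Fin k) (Fin k) F := Matrix.of β with hBm
  have hval : ∀ v w : Fin k → Fin d → F,
      B (assemble φ v) (assemble φ w) = ∑ i, ∑ j, Bm i j * (v i ⬝ᵥ g *ᵥ w j) := fun v w => by
    rw [hflat]
    refine Finset.sum_congr rfl fun i _ => Finset.sum_congr rfl fun j _ => ?_
    rw [hβ, Matrix.smul_mulVec, dotProduct_smul, smul_eq_mul]; rfl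
  haveI : Nonempty (Fin d) := ⟨⟨0, by omega⟩⟩
  have hBu : IsUnit Bm := by
    rw [← Matrix.mulVec_injective_iff_isUnit]
    intro v w hvw
    by_contra hne'
    set z := v - w
    have hz : z ≠ 0 := sub_ne_zero.2 hne'
    have hzB : Bm *ᵥ z = 0 := by rw [Matrix.mulVec_sub]; exact sub_eq_zero.2 hvw
    obtain ⟨i, hi⟩ := Function.ne_iff.1 hz
    let x : Fin d → F := Pi.single ⟨0, by omega⟩ 1
    have hx : assemble φ (fun j => z j • x) ≠ 0 := fun h => hi (by
      have h' := congrFun (congrFun ((injective_iff_map_eq_zero (assemble φ)).1 hbij.1 _ h) i) ⟨0, by omega⟩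
      simpa [x] using h')
    obtain ⟨u, hu⟩ := hpart _ hx
    apply hu
    rw [hval]
    refine Finset.sum_eq_zero fun i' _ => ?_
    have : ∀ j, Bm i' j * (u i' ⬝ᵥ g *ᵥ (z j • x)) = Bm i' j * z j * (u i' ⬝ᵥ g *ᵥ x) := fun j => by
      rw [Matrix.mulVec_smul, dotProduct_smul, smul_eq_mul]; ring
    rw [Finset.sum_congr rfl fun j _ => this j, ← Finset.sum_mul]
    show (Bm *ᵥ z) i' * _ = 0
    rw [hzB, Pi.zero_apply, zero_mul]
  obtain ⟨ε, hε⟩ := hmult gᵀ fun n => by
    rw [← Matrix.transpose_transpose (A n), ← Matrix.transpose_mul, ← Matrix.transpose_mul, Matrix.transpose_transpose,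
      ← mul_assoc, hinv]
  obtain ⟨a, b, hab⟩ : ∃ a b, g a b ≠ 0 := PrimeDim.FormDescent.exists_ne_entry (by rw [← hU]; exact U.isUnit)
  have hεε : ε * ε = 1 := by
    have h1 := congrFun (congrFun hε b) a
    have h2 := congrFun (congrFun hε a) b
    simp only [Matrix.transpose_apply, Matrix.smul_apply, smul_eq_mul] at h1 h2
    exact mul_right_cancel₀ hab (by linear_combination -h1 - ε * h2)
  have hswap : ∀ x y : Fin d → F, y ⬝ᵥ g *ᵥ x = ε * (x ⬝ᵥ g *ᵥ y) := fun x y => by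
    rw [Matrix.dotProduct_mulVec, dotProduct_comm, ← Matrix.mulVec_transpose, hε, Matrix.smul_mulVec, dotProduct_smul,
      smul_eq_mul]
  have hskew : ∀ i j, Bm j i * ε = - Bm i j := fun i j => by
    have h := (MaxSub.stdAlt 6 F).skew (φ i (Pi.single a 1)) (φ j (Pi.single b 1))
    rw [← hB, hM, hM, hβ, hβ, Matrix.smul_mulVec, Matrix.smul_mulVec, dotProduct_smul, dotProduct_smul,
      hswap (Pi.single a 1) (Pi.single b 1)] at h
    simp only [Matrix.mulVec_single_one, single_dotProduct, one_mul, smul_eq_mul] at h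
    change β i j * g a b = _ at h
    show β j i * ε = - β i j
    exact mul_right_cancel₀ hab (by simp only [Matrix.col_apply] at h ⊢; linear_combination h)
  have hkron : ∀ h ∈ H, ∃ (C : GL (Fin d) F) (D : GL (Fin k) F), ∀ v : Fin k → Fin d → F,
      (h : M12) *ᵥ assemble φ v =
        assemble φ fun a => ∑ b, (D : Matrix (Fin k) (Fin k) F) a b • ((C : Matrix (Fin d) (Fin d) F) *ᵥ v b) :=
    fun h hh => SympTwoPrime.exists_kronecker (by omega) (by omega) A hirr hscal φ hequiv hbij h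
      fun x hx => hNG h hh x hx
  by_cases hε1 : ε = -1
  · refine ⟨d, k, hdk, hd, hk, ⟨?_⟩⟩
    have hsym : Bmᵀ = Bm := by
      ext i j
      have := hskew i j
      rw [hε1] at this
      simp only [Matrix.transpose_apply]
      linear_combination -this
    have halt : ∀ x, x ⬝ᵥ g *ᵥ x = 0 := fun x => by
      by_cases h2 : (2 : F) = 0
      · exact SympTwoPrime.alt_of_symm h2 hd A hirr (by
          rw [hε, hε1, show (-1 : F) = 1 by linear_combination -h2, one_smul]) (hinv i₀ j₀) x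
      · have := hswap x x
        rw [hε1] at this
        exact (mul_eq_zero.1 (show (2 : F) * (x ⬝ᵥ g *ᵥ x) = 0 by linear_combination this)).resolve_left h2
    let sw : ((Fin d × Fin k) → F) ≃ₗ[F] (Fin k → Fin d → F) :=
      { toFun := fun x j i => x (i, j)
        invFun := fun v p => v p.2 p.1
        map_add' := fun _ _ => rfl
        map_smul' := fun _ _ => rfl
        left_inv := fun _ => rfl
        right_inv := fun _ => rfl }
    refine ⟨sw.trans (LinearEquiv.ofBijective _ hbij), g, Bm, hU ▸ U.isUnit, hBu, by rw [hε, hε1, neg_one_smul], halt,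
      hsym, fun x y => ?_, fun h hh => ?_⟩
    · show B (assemble φ fun j i => x (i, j)) (assemble φ fun j i => y (i, j)) = _
      rw [hval, ← formOfGram_eq_dot]
      simp only [formOfGram, dotProduct, Matrix.mulVec, Matrix.kroneckerMap_apply, Fintype.sum_prod_type,
        Finset.mul_sum, id_eq]
      conv_rhs => rw [Finset.sum_comm]
      refine Finset.sum_congr rfl fun j _ => ?_
      rw [Finset.sum_comm]
      refine Finset.sum_congr rfl fun i _ => ?_
      rw [Finset.sum_comm]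
      exact Finset.sum_congr rfl fun i' _ => Finset.sum_congr rfl fun l _ => by ring
    · obtain ⟨C, D, hCD⟩ := hkron h hh
      refine ⟨C, D, fun x => ?_⟩
      show (h : M12) *ᵥ assemble φ (fun j i => x (i, j)) = _
      rw [hCD]
      show _ = assemble φ _
      congr 1
      funext j i
      show _ = (((C : Matrix (Fin d) (Fin d) F) ⊗ₖ (D : Matrix (Fin k) (Fin k) F)) *ᵥ x) (i, j)
      simp only [Finset.sum_apply, Pi.smul_apply, smul_eq_mul, Matrix.mulVec, dotProduct, Finset.mul_sum]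
      rw [Fintype.sum_prod_type, Finset.sum_comm]
      exact Finset.sum_congr rfl fun s _ => Finset.sum_congr rfl fun l _ => by
        rw [Matrix.kroneckerMap_apply]; ring
  · refine ⟨k, d, by rw [mul_comm]; exact hdk, hk, hd, ⟨?_⟩⟩
    have h1 : ε = 1 := by
      have h := (mul_eq_zero.1 (show (ε - 1) * (ε + 1) = 0 by linear_combination hεε)).resolve_right
        fun h => hε1 (by linear_combination h)
      linear_combination h
    have h2 : (2 : F) ≠ 0 := fun h => hε1 (by linear_combination h1 + h)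
    have hBskew : Bmᵀ = -Bm := by
      ext i j
      have := hskew i j
      rw [h1, mul_one] at this
      exact this
    have halt : ∀ u, u ⬝ᵥ Bm *ᵥ u = 0 := fun u => by
      have h : u ⬝ᵥ Bm *ᵥ u = - (u ⬝ᵥ Bm *ᵥ u) := by
        conv_lhs => rw [Matrix.dotProduct_mulVec, dotProduct_comm, ← Matrix.mulVec_transpose, hBskew, Matrix.neg_mulVec,
          dotProduct_neg]
      exact (mul_eq_zero.1 (show (2 : F) * (u ⬝ᵥ Bm *ᵥ u) = 0 by linear_combination h)).resolve_left h2
    let sw : ((Fin k × Fin d) → F) ≃ₗ[F] (Fin k → Fin d → F) :=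
      { toFun := fun x r j => x (r, j)
        invFun := fun v p => v p.1 p.2
        map_add' := fun _ _ => rfl
        map_smul' := fun _ _ => rfl
        left_inv := fun _ => rfl
        right_inv := fun _ => rfl }
    refine ⟨sw.trans (LinearEquiv.ofBijective _ hbij), Bm, g, hBu, hU ▸ U.isUnit, hBskew, halt,
      by rw [hε, h1, one_smul], fun x y => ?_, fun h hh => ?_⟩
    · show B (assemble φ fun r j => x (r, j)) (assemble φ fun r j => y (r, j)) = _
      rw [hval, ← formOfGram_eq_dot]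
      simp only [formOfGram, dotProduct, Matrix.mulVec, Matrix.kroneckerMap_apply, Fintype.sum_prod_type,
        Finset.mul_sum, id_eq]
      refine Finset.sum_congr rfl fun r _ => ?_
      rw [Finset.sum_comm]
      exact Finset.sum_congr rfl fun j _ => Finset.sum_congr rfl fun r' _ => Finset.sum_congr rfl fun l _ => by ring
    · obtain ⟨C, D, hCD⟩ := hkron h hh
      refine ⟨D, C, fun x => ?_⟩
      show (h : M12) *ᵥ assemble φ (fun r j => x (r, j)) = _
      rw [hCD]
      show _ = assemble φ _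
      congr 1
      funext r j
      show _ = (((D : Matrix (Fin k) (Fin k) F) ⊗ₖ (C : Matrix (Fin d) (Fin d) F)) *ᵥ x) (r, j)
      simp only [Finset.sum_apply, Pi.smul_apply, smul_eq_mul, Matrix.mulVec, dotProduct, Finset.mul_sum]
      rw [Fintype.sum_prod_type]
      exact Finset.sum_congr rfl fun s _ => Finset.sum_congr rfl fun l _ => by
        rw [Matrix.kroneckerMap_apply]; ring

/-- The tensor step. -/
theorem tensor_cases [Fintype F] {H N : Subgroup G12} (hH : IsMaximalIn (Cfsg.spGL 6 F) H)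
    (hirrH : ActsIrreducibly (matrixSet H)) (hNle : N ≤ H) (hNG : ∀ h ∈ H, ∀ x ∈ N, h * x * h⁻¹ ∈ N)
    {d k : ℕ} (hdk : d * k = 12) (hd : 1 < d) (hk : 1 < k) (A : N → Matrix (Fin d) (Fin d) F)
    (hirr : ∀ U : Submodule F (Fin d → F), (∀ n, ∀ u ∈ U, A n *ᵥ u ∈ U) → U = ⊥ ∨ U = ⊤)
    (hscal : ∀ M : Matrix (Fin d) (Fin d) F, (∀ n, M * A n = A n * M) → ∃ c : F, M = c • 1)
    (φ : Fin k → (Fin d → F) →ₗ[F] (Fin 6 ⊕ Fin 6 → F))
    (hequiv : ∀ j (n : N) x, ((n : G12) : M12) *ᵥ φ j x = φ j (A n *ᵥ x))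
    (hbij : Function.Bijective (assemble φ)) :
    Cases H ∨ ∃ K : Subalgebra F M12, IsFieldSubalgebra 2 K ∧ IsAdjointClosedFor (Cfsg.sympForm 6 F) K ∧
      ∀ h ∈ H, h ∈ subalgebraNormalizer K := by
  obtain ⟨a, b, hab, ha, hb, ⟨T⟩⟩ := exists_tensorData hH.1.le hNle hNG hdk hd hk A hirr hscal φ hequiv hbij
  by_cases h2 : (2 : F) = 0
  · exact Or.inl (T.char_two hH hirrH (by nlinarith) h2)
  have hq : Odd (Fintype.card F) := by
    rw [Nat.odd_iff]
    exact FiniteField.odd_card_of_char_ne_two fun h => h2 (by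
      haveI := ringChar.of_eq h
      exact CharTwo.two_eq_zero)
  have haeven : ¬ Odd a := by
    intro hodd
    have h := congrArg Matrix.det T.skew
    rw [Matrix.det_transpose, Matrix.det_neg, Fintype.card_fin, hodd.neg_one_pow] at h
    exact mul_ne_zero h2 ((Matrix.isUnit_iff_isUnit_det _).1 T.hGa).ne_zero (by linear_combination h)
  have hcases : (a = 2 ∧ b = 6) ∨ (a = 4 ∧ b = 3) ∨ (a = 6 ∧ b = 2) := by
    have hdvd : a ∣ 12 := ⟨b, hab.symm⟩
    have h12 : a ≤ 6 := by nlinarith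
    have : a ≠ 3 := fun h => haeven (h ▸ by decide)
    have : a ≠ 5 := fun h => by rw [h] at hdvd; norm_num at hdvd
    interval_cases a <;> omega
  rcases hcases with ⟨rfl, rfl⟩ | ⟨rfl, rfl⟩ | ⟨rfl, rfl⟩
  · obtain ⟨e, P, f₁, f₂, h₁, h₂, hstr, hle⟩ := T.le_tensor
    have heq := SympTwoPrime.eq_inf_of_le hH hle (SympTwoPrime.not_le_tensorProductSubgroup le_rfl (by norm_num) e P)
    refine Or.inl ?_
    unfold Cases
    iterate 9 right
    left
    exact ⟨hq, e, P, f₁, f₂, h₁, h₂, hstr, heq⟩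
  · by_cases h5 : 5 ≤ Fintype.card F
    · obtain ⟨e, P, f₁, f₂, h₁, h₂, hstr, hle⟩ := T.le_tensor
      have heq := SympTwoPrime.eq_inf_of_le hH hle
        (SympTwoPrime.not_le_tensorProductSubgroup (by norm_num) (by norm_num) e P)
      refine Or.inl ?_
      unfold Cases
      iterate 10 right
      left
      exact ⟨hq, h5, e, P, f₁, f₂, h₁, h₂, hstr, heq⟩
    · refine Or.inl (T.three_slices ?_ hH)
      obtain ⟨t, ht⟩ := hq
      have := Fintype.one_lt_card (α := F)
      omega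
  · exact T.two_copies h2 hq hH

end Cfsg.Agent.Lib.SympTwelve
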