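import Cfsg.Agent.Lib.SympTwoPrime.Defs
import Cfsg.Agent.Lib.SympTwoPrime.Proper
import Cfsg.Agent.Lib.TwoPrimeDim.Centre

/-!
helper12: decompositions fixed by a maximal subgroup of the symplectic group (any rank).
-/

set_option autoImplicit false
set_option linter.unusedSectionVars false

namespace Cfsg.Agent.Lib.SympTwelve

open Matrix Cfsg.Geo Cfsg.Agent.Lib.MaxSub Cfsg.Agent.Lib.SympTwoPrime
open scoped MatrixGroups Matrix

variable {m : ℕ} {F : Type*} [Field F]

local notation "II" => (Fin m ⊕ Fin m)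
local notation "MM" => Matrix (Fin m ⊕ Fin m) (Fin m ⊕ Fin m) F
local notation "VV" => (Fin m ⊕ Fin m → F)
local notation "GG" => Matrix.GeneralLinearGroup (Fin m ⊕ Fin m) F
local notation "ff" => Cfsg.sympForm m F
local notation "SP" => Cfsg.spGL m F
local notation "AA" => Cfsg.Agent.Lib.MaxSub.stdAlt m F

open Cfsg.Agent.Lib.TwoPrimeDim (img mem_img_idem map_img_conj)

/-- The adjoint of a matrix for the symplectic form. -/
def adj (X : MM) : MM := -(Matrix.J (Fin m) F * Xᵀ * Matrix.J (Fin m) F)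

theorem adj_spec (X : MM) (u v : VV) : ff (X *ᵥ u) v = ff u (adj X *ᵥ v) := by
  have h : Matrix.J (Fin m) F * adj X = Xᵀ * Matrix.J (Fin m) F := by
    rw [adj, mul_neg, ← mul_assoc, ← mul_assoc, Matrix.J_squared]
    simp
  rw [Cfsg.sympForm, Cfsg.sympForm, Matrix.mulVec_mulVec, h, ← Matrix.mulVec_mulVec,
    Matrix.dotProduct_mulVec u Xᵀ, Matrix.vecMul_transpose]

theorem adj_eq {X X' : MM} (h : ∀ u v : VV, ff (X *ᵥ u) v = ff u (X' *ᵥ v)) : adj X = X' := by
  refine MaxSub.eq_of_mulVec_eq fun v => sub_eq_zero.mp ((AA).nondeg _ fun u => ?_)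
  rw [map_sub, stdAlt_apply, stdAlt_apply, ← adj_spec, h u v, sub_self]

theorem adj_mul (X Y : MM) : adj (X * Y) = adj Y * adj X := adj_eq fun u v => by
  rw [← Matrix.mulVec_mulVec, adj_spec, adj_spec, Matrix.mulVec_mulVec]

theorem skewB (u v : VV) : ff u v = - ff v u := by
  simp only [← stdAlt_apply]; exact (AA).skew u v

theorem adj_adj (X : MM) : adj (adj X) = X := adj_eq fun u v => by
  rw [skewB, ← adj_spec, ← skewB]

theorem adj_one : adj (1 : MM) = 1 := adj_eq fun u v => by simp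

theorem adj_zero : adj (0 : MM) = 0 := by simp [adj]

theorem adj_add (X Y : MM) : adj (X + Y) = adj X + adj Y := by
  simp only [adj, Matrix.transpose_add, mul_add, add_mul, neg_add]

theorem adj_sp {g : GG} (hg : g ∈ SP) : adj (g : MM) = ((g⁻¹ : GG) : MM) := adj_eq fun u v => by
  have h := (AA).preserves_inv_left (g := g⁻¹) (mem_spGL_iff.mp (inv_mem hg)) u v
  rw [inv_inv, stdAlt_apply, stdAlt_apply] at h
  exact h

theorem adj_conj {g : GG} (hg : g ∈ SP) (X : MM) :
    adj ((g : MM) * X * ((g⁻¹ : GG) : MM)) = (g : MM) * adj X * ((g⁻¹ : GG) : MM) := by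
  rw [adj_mul, adj_mul, adj_sp (inv_mem hg), inv_inv, adj_sp hg, mul_assoc]

theorem adj_mem_centre {N : Subgroup GG} (hN : N ≤ SP) {X : MM} (hX : X ∈ TwoPrimeDim.centre N) :
    adj X ∈ TwoPrimeDim.centre N := by
  rw [TwoPrimeDim.mem_centre] at hX ⊢
  have key : ∀ Y : MM, (∀ g ∈ N, (g : MM) * Y = Y * (g : MM)) → ∀ g ∈ N, (g : MM) * adj Y = adj Y * (g : MM) := by
    intro Y hY g hg
    have h := congrArg adj (hY g⁻¹ (N.inv_mem hg))
    rw [adj_mul, adj_mul, adj_sp (hN (N.inv_mem hg)), inv_inv] at h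
    exact h.symm
  refine ⟨key X hX.1, fun Y hY => ?_⟩
  have h := congrArg adj (hX.2 (adj Y) (key Y hY))
  rw [adj_mul, adj_mul, adj_adj] at h
  exact h.symm

/-- Orthogonal self-adjoint blocks of dimension `w` permuted by `H`. -/
structure NdBlocks (H : Subgroup GG) {t : ℕ} (w : ℕ) (e : Fin t → MM) : Prop where
  idem : ∀ i, e i * e i = e i
  orth : ∀ i j, i ≠ j → e i * e j = 0
  sum_eq : ∑ i, e i = 1
  selfAdj : ∀ i, adj (e i) = e i
  perm : ∀ g ∈ H, ∃ σ : Equiv.Perm (Fin t), ∀ i, (g : MM) * e i * ((g⁻¹ : GG) : MM) = e (σ i)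
  two_le : 2 ≤ t
  pos : 0 < w
  rank : ∀ i, Module.finrank F (img (e i)) = w

theorem NdBlocks.decomp [Finite F] {H : Subgroup GG} {t w : ℕ} {e : Fin t → MM} (hB : NdBlocks H w e) :
    IsNondegenerateMDecomposition ff w (fun i => img (e i)) ∧
      H ≤ decompositionStabilizer (fun i => img (e i)) := by
  refine ⟨⟨⟨hB.two_le, hB.pos, hB.rank, fun i => ?_, eq_top_iff.mpr fun v _ => ?_⟩, fun i x hx hx0 => ?_,
    fun i j hij u hu v hv => ?_⟩, fun g hg => ?_⟩
  · rw [disjoint_iff, Submodule.eq_bot_iff]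
    rintro v ⟨hv1, hv2⟩
    have hle : (⨆ (j) (_ : j ≠ i), img (e j)) ≤ LinearMap.ker (Matrix.toLin' (e i)) := by
      refine iSup₂_le fun j hj => ?_
      rintro _ ⟨u, rfl⟩
      rw [LinearMap.mem_ker, Matrix.toLin'_apply, Matrix.toLin'_apply, Matrix.mulVec_mulVec,
        hB.orth i j hj.symm, Matrix.zero_mulVec]
    rw [← (mem_img_idem (hB.idem i)).mp hv1]
    simpa using hle hv2
  · rw [show v = ∑ i, e i *ᵥ v by rw [← Matrix.sum_mulVec, hB.sum_eq, Matrix.one_mulVec]]
    exact sum_mem fun i _ => Submodule.mem_iSup_of_mem i ⟨v, rfl⟩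
  · obtain ⟨y, hy⟩ := exists_pair_ne hx0
    rw [stdAlt_apply] at hy
    have h1 : ff x (e i *ᵥ y) ≠ 0 := by
      rw [← congrArg (fun M : MM => M *ᵥ y) (hB.selfAdj i), ← adj_spec, (mem_img_idem (hB.idem i)).mp hx]
      exact hy
    exact ⟨⟨_, ⟨y, rfl⟩, by rw [skewB]; exact neg_ne_zero.mpr h1⟩, ⟨_, ⟨y, rfl⟩, h1⟩⟩
  · rw [← (mem_img_idem (hB.idem i)).mp hu, adj_spec, hB.selfAdj, ← (mem_img_idem (hB.idem j)).mp hv,
      Matrix.mulVec_mulVec, hB.orth i j hij, Matrix.zero_mulVec]
    simp [Cfsg.sympForm]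
  · obtain ⟨σ, hσ⟩ := hB.perm g hg
    exact ⟨σ, fun i => by rw [map_img_conj, hσ]⟩

/-- The blocks of a normal subgroup are orthogonal, or two totally singular halves, or pair up. -/
theorem blocks_split [Fintype F] {H N : Subgroup GG} (hH : H ≤ SP) (hN : N ≤ SP) {t w : ℕ} {e : Fin t → MM}
    (hB : TwoPrimeDim.Blocks H N w e) :
    (∃ (s v : ℕ) (e' : Fin s → MM), s * v = 2 * m ∧ NdBlocks H v e') ∨
      (∃ e₀ : MM, e₀ * e₀ = e₀ ∧ adj e₀ = 1 - e₀ ∧ Module.finrank F (img e₀) = m ∧
        Module.finrank F (img (1 - e₀)) = m ∧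
        ∀ g ∈ H, (g : MM) * e₀ * ((g⁻¹ : GG) : MM) = e₀ ∨ (g : MM) * e₀ * ((g⁻¹ : GG) : MM) = 1 - e₀) := by
  classical
  have hcard : t * w = 2 * m := by
    have h := hB.card_eq
    rw [Fintype.card_sum, Fintype.card_fin] at h
    omega
  have hex : ∀ i, ∃ j, adj (e i) = e j := by
    intro i
    refine hB.exists_eq (adj_mem_centre hN (hB.mem i)) (by rw [← adj_mul, hB.idem]) ?_ fun j => ?_
    · intro h0
      exact hB.ne_zero i (by rw [← adj_adj (e i), h0, adj_zero])
    · rcases hB.prim i (adj (e j)) (adj_mem_centre hN (hB.mem j)) (by rw [← adj_mul, hB.idem]) with h | h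
      · left
        have h2 := congrArg adj h
        rw [adj_mul, adj_adj, adj_zero] at h2
        rwa [TwoPrimeDim.centre_comm (adj_mem_centre hN (hB.mem i)) (hB.mem j)]
      · right
        have h2 := congrArg adj h
        rw [adj_mul, adj_adj] at h2
        rwa [TwoPrimeDim.centre_comm (adj_mem_centre hN (hB.mem i)) (hB.mem j)]
  choose π hπ using hex
  have hinj : Function.Injective e := fun i j h => by
    by_contra hij
    exact hB.ne_zero i (by rw [← hB.idem i]; exact (congrArg (e i * ·) h).trans (hB.orth i j hij))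
  have hππ : ∀ i, π (π i) = i := fun i => hinj (by rw [← hπ, ← hπ, adj_adj])
  have hconj : ∀ g ∈ H, ∀ i j, (g : MM) * e i * ((g⁻¹ : GG) : MM) = e j →
      (g : MM) * e (π i) * ((g⁻¹ : GG) : MM) = e (π j) := fun g hg i j h => by
    rw [← hπ, ← hπ, ← h, adj_conj (hH hg)]
  by_cases hfix : ∃ i, π i = i
  · obtain ⟨i₀, hi₀⟩ := hfix
    left
    refine ⟨t, w, e, hcard, hB.idem, hB.orth, hB.sum_eq, fun j => ?_, hB.perm, hB.decomp.two_le, hB.decomp.pos,
      hB.decomp.finrank_eq⟩
    obtain ⟨g, hg, hgj⟩ := hB.trans i₀ j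
    have h := hconj g hg i₀ j hgj
    rw [hi₀, hgj] at h
    rw [hπ, ← h]
  push Not at hfix
  by_cases ht : t = 2
  · subst ht
    right
    have h0 : π 0 = 1 := by have := hfix 0; omega
    have hsum : e 0 + e 1 = 1 := by rw [← hB.sum_eq, Fin.sum_univ_two]
    have he1 : (1 : MM) - e 0 = e 1 := by rw [← hsum]; abel
    refine ⟨e 0, hB.idem 0, by rw [hπ, h0, he1], ?_, ?_, fun g hg => ?_⟩
    · have := hB.decomp.finrank_eq 0; omega
    · rw [he1]; have := hB.decomp.finrank_eq 1; omega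
    · obtain ⟨σ, hσ⟩ := hB.perm g hg
      rw [hσ 0, he1]
      rcases (show σ 0 = 0 ∨ σ 0 = 1 by omega) with h | h <;> simp [h]
  -- pair the blocks
  left
  let S : Finset (Fin t) := Finset.univ.filter fun i => i < π i
  have hS : ∀ i, i ∈ S ↔ i < π i := fun i => by simp [S]
  have hcases : ∀ i, (i ∈ S ∧ π i ∉ S) ∨ (i ∉ S ∧ π i ∈ S) := by
    intro i
    rw [hS, hS, hππ]
    rcases lt_or_gt_of_ne (hfix i) with h | h
    · exact Or.inr ⟨not_lt.mpr h.le, h⟩
    · exact Or.inl ⟨h, not_lt.mpr h.le⟩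
  let pr : Fin t → MM := fun i => e i + e (π i)
  have hprπ : ∀ i, pr (π i) = pr i := fun i => by simp only [pr, hππ]; exact add_comm _ _
  let idx : Fin S.card → Fin t := fun k => (S.equivFin.symm k : Fin t)
  have hidxS : ∀ k, idx k ∈ S := fun k => (S.equivFin.symm k).2
  have hidx : ∀ i, ∃ k, pr (idx k) = pr i := by
    intro i
    rcases hcases i with ⟨h, -⟩ | ⟨-, h⟩
    · exact ⟨S.equivFin ⟨i, h⟩, by simp [idx]⟩
    · exact ⟨S.equivFin ⟨π i, h⟩, by simp [idx, hprπ]⟩
  have hne : ∀ k l, k ≠ l → idx k ≠ idx l ∧ idx k ≠ π (idx l) := by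
    intro k l hkl
    refine ⟨fun h => hkl (S.equivFin.symm.injective (Subtype.ext h)), fun h => ?_⟩
    rcases hcases (idx l) with ⟨-, h2⟩ | ⟨h2, -⟩
    · exact h2 (h ▸ hidxS k)
    · exact h2 (hidxS l)
  have hidem : ∀ i, pr i * pr i = pr i := fun i => by
    simp only [pr, add_mul, mul_add, hB.idem, hB.orth _ _ (hfix i).symm, hB.orth _ _ (hfix i), add_zero, zero_add]
  have horth : ∀ i j, i ≠ j → i ≠ π j → pr i * pr j = 0 := fun i j h1 h2 => by
    have h3 : π i ≠ j := fun h => h2 (by rw [← h, hππ])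
    have h4 : π i ≠ π j := fun h => h1 (by rw [← hππ i, h, hππ])
    simp only [pr, add_mul, mul_add, hB.orth _ _ h1, hB.orth _ _ h2, hB.orth _ _ h3, hB.orth _ _ h4, add_zero]
  have hsum : ∑ k, pr (idx k) = 1 := by
    rw [show (∑ k, pr (idx k)) = ∑ i ∈ S, pr i from ?_, ← hB.sum_eq]
    · simp only [pr, Finset.sum_add_distrib]
      have himg : ∑ i ∈ S, e (π i) = ∑ i ∈ Sᶜ, e i := by
        refine Finset.sum_nbij' π π (fun i hi => ?_) (fun i hi => ?_) (fun i _ => hππ i) (fun i _ => hππ i)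
          (fun i _ => rfl)
        · rcases hcases i with ⟨-, h⟩ | ⟨h, -⟩
          · exact Finset.mem_compl.mpr h
          · exact absurd hi h
        · rcases hcases i with ⟨h, -⟩ | ⟨-, h⟩
          · exact absurd h (Finset.mem_compl.mp hi)
          · exact h
      rw [himg, Finset.sum_add_sum_compl]
    · rw [← Finset.sum_coe_sort S]
      exact Fintype.sum_equiv S.equivFin.symm _ _ fun k => rfl
  have hperm : ∀ g ∈ H, ∀ i, ∃ j, (g : MM) * pr i * ((g⁻¹ : GG) : MM) = pr j := by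
    intro g hg i
    obtain ⟨σ, hσ⟩ := hB.perm g hg
    refine ⟨σ i, ?_⟩
    simp only [pr, mul_add, add_mul, hσ i, hconj g hg i _ (hσ i)]
  have hrank : ∀ i, Module.finrank F (img (pr i)) = 2 * w := by
    intro i
    have heq : img (pr i) = img (e i) ⊔ img (e (π i)) := by
      refine le_antisymm ?_ (sup_le ?_ ?_)
      · rintro _ ⟨u, rfl⟩
        simp only [pr, Matrix.toLin'_apply, Matrix.add_mulVec]
        exact Submodule.add_mem_sup ⟨u, rfl⟩ ⟨u, rfl⟩
      · rintro x hx
        rw [mem_img_idem (hidem i), Matrix.add_mulVec, (mem_img_idem (hB.idem i)).mp hx,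
          ← (mem_img_idem (hB.idem i)).mp hx, Matrix.mulVec_mulVec _ (e (π i)), hB.orth _ _ (hfix i),
          Matrix.zero_mulVec, add_zero]
      · rintro x hx
        rw [mem_img_idem (hidem i), Matrix.add_mulVec, (mem_img_idem (hB.idem _)).mp hx,
          ← (mem_img_idem (hB.idem _)).mp hx, Matrix.mulVec_mulVec _ (e i), hB.orth _ _ (hfix i).symm,
          Matrix.zero_mulVec, zero_add]
    have h := Submodule.finrank_sup_add_finrank_inf_eq (img (e i)) (img (e (π i)))
    rw [← heq, (hB.decomp.indep.pairwiseDisjoint (hfix i).symm).eq_bot, finrank_bot,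
      hB.decomp.finrank_eq, hB.decomp.finrank_eq] at h
    omega
  have hScard : 2 * S.card = t := by
    have h1 : Sᶜ.card = S.card := by
      refine Finset.card_nbij' π π (fun i hi => ?_) (fun i hi => ?_) (fun i _ => hππ i) (fun i _ => hππ i)
      · rcases hcases i with ⟨h, -⟩ | ⟨-, h⟩
        · exact absurd h (Finset.mem_compl.mp hi)
        · exact h
      · rcases hcases i with ⟨-, h⟩ | ⟨h, -⟩
        · exact Finset.mem_compl.mpr h
        · exact absurd hi h
    have h2 := Finset.card_add_card_compl S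
    rw [Fintype.card_fin] at h2
    omega
  have := hB.decomp.two_le
  refine ⟨S.card, 2 * w, fun k => pr (idx k), by rw [← hcard, mul_left_comm, ← mul_assoc, hScard], fun k => hidem _,
    fun k l h => horth _ _ (hne k l h).1 (hne k l h).2, hsum, fun k => ?_, fun g hg => ?_, by omega,
    by have := hB.decomp.pos; omega, fun k => hrank _⟩
  · simp only [pr, adj_add, hπ, hππ]; exact add_comm _ _
  · choose s hs using fun k => hperm g hg (idx k)
    choose r hr using fun k => hidx (s k)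
    have hs' : ∀ k, (g : MM) * pr (idx k) * ((g⁻¹ : GG) : MM) = pr (idx (r k)) := fun k => by rw [hs, hr]
    refine ⟨Equiv.ofBijective r (Finite.injective_iff_bijective.mp fun k l h => ?_), hs'⟩
    have h1 := (hs' k).trans ((congrArg (fun x => pr (idx x)) h).trans (hs' l).symm)
    have h2 : pr (idx k) = pr (idx l) := by
      simpa [mul_assoc] using congrArg (fun M => ((g⁻¹ : GG) : MM) * M * (g : MM)) h1
    by_contra hkl
    have h3 := horth _ _ (hne k l hkl).1 (hne k l hkl).2
    rw [h2, hidem] at h3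
    have h4 := hrank (idx l)
    rw [h3, TwoPrimeDim.img, map_zero, LinearMap.range_zero, finrank_bot] at h4
    have := hB.decomp.pos
    omega

/-- Characteristic two: a totally singular pair fixes a quadratic form. -/
theorem pair_even [Fintype F] {H : Subgroup GG} (hH : H ≤ SP) (h2 : (2 : F) = 0) {e₀ : MM}
    (hadj : adj e₀ = 1 - e₀)
    (hperm : ∀ g ∈ H, (g : MM) * e₀ * ((g⁻¹ : GG) : MM) = e₀ ∨ (g : MM) * e₀ * ((g⁻¹ : GG) : MM) = 1 - e₀) :
    ∃ Q : VV → F, IsNondegenerateQuadraticForm Q ∧ (∀ u v : VV, QuadraticMap.polar Q u v = ff u v) ∧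
      H ≤ quadSimilarityGroup Q := by
  let B := (AA).B
  have hB : ∀ u w, ff u w = B u w := fun u w => (stdAlt_apply u w).symm
  have hsym : ∀ u w, B u w = B w u := fun u w => by
    rw [(AA).skew u w, neg_eq_iff_add_eq_zero, ← two_mul, h2, zero_mul]
  let Q : VV → F := fun v => B (e₀ *ᵥ v) v
  have hswap : ∀ u v, B (e₀ *ᵥ v) u = B ((1 - e₀) *ᵥ u) v := fun u v => by
    rw [← hB, adj_spec, hadj, hB, hsym]
  have hpol : ∀ u v : VV, QuadraticMap.polar Q u v = B u v := fun u v => by
    show B (e₀ *ᵥ (u + v)) (u + v) - B (e₀ *ᵥ u) u - B (e₀ *ᵥ v) v = B u v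
    rw [Matrix.mulVec_add]
    simp only [map_add, LinearMap.add_apply]
    rw [hswap u v, show B (e₀ *ᵥ u) u + B ((1 - e₀) *ᵥ u) v + (B (e₀ *ᵥ u) v + B (e₀ *ᵥ v) v) -
      B (e₀ *ᵥ u) u - B (e₀ *ᵥ v) v = B ((1 - e₀) *ᵥ u) v + B (e₀ *ᵥ u) v by ring, ← LinearMap.add_apply,
      ← map_add, ← Matrix.add_mulVec, sub_add_cancel, Matrix.one_mulVec]
  have hpolEq : QuadraticMap.polar Q = ff := funext fun u => funext fun v => (hpol u v).trans (stdAlt_apply u v)
  refine ⟨Q, ⟨fun c v => ?_, by rw [hpolEq]; exact sp_bilinear, by rw [hpolEq]; exact sp_symplectic.nondegenerate⟩,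
    fun u v => (hpol u v).trans (stdAlt_apply u v), fun g hg => ⟨1, fun v => ?_⟩⟩
  · simp only [Q, Matrix.mulVec_smul, map_smul, LinearMap.smul_apply, smul_eq_mul]; ring
  · have hp : (AA).Preserves g := mem_spGL_iff.mp (hH hg)
    show B (e₀ *ᵥ ((g : MM) *ᵥ v)) ((g : MM) *ᵥ v) = ((1 : Fˣ) : F) * B (e₀ *ᵥ v) v
    rw [Units.val_one, one_mul]
    rcases hperm g⁻¹ (H.inv_mem hg) with h | h
    all_goals
      rw [inv_inv] at h
      have h' : e₀ * (g : MM) = (g : MM) * (((g⁻¹ : GG) : MM) * e₀ * (g : MM)) := by simp [← mul_assoc]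
      rw [Matrix.mulVec_mulVec, h', h, ← Matrix.mulVec_mulVec, hp]
    rw [← hswap v v]

/-- Over two elements, orthogonal planes carry an invariant quadratic form. -/
theorem planes_two [Fintype F] {H : Subgroup GG} (hH : H ≤ SP) (hq : Fintype.card F = 2) {t : ℕ}
    {e : Fin t → MM} (hB : NdBlocks H 2 e) :
    ∃ Q : VV → F, IsNondegenerateQuadraticForm Q ∧ (∀ u v : VV, QuadraticMap.polar Q u v = ff u v) ∧
      H ≤ quadSimilarityGroup Q := by
  classical
  have hall : ∀ a : F, a = 0 ∨ a = 1 := fun a => by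
    by_contra h
    push Not at h
    have h3 : ({0, 1, a} : Finset F).card = 3 := by
      rw [Finset.card_insert_of_notMem (by simp [h.1.symm]), Finset.card_pair h.2.symm]
    have := Finset.card_le_univ ({0, 1, a} : Finset F)
    omega
  have h11 : (1 : F) + 1 = 0 := (hall (1 + 1)).resolve_right fun h => one_ne_zero (α := F) (by linear_combination h)
  let B := (AA).B
  have hBB : ∀ u w, ff u w = B u w := fun u w => (stdAlt_apply u w).symm
  let ind : VV → F := fun x => if x = 0 then 0 else 1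
  let Q : VV → F := fun v => ∑ i, ind (e i *ᵥ v)
  obtain ⟨hD, -⟩ := hB.decomp
  have hplane : ∀ i, ∀ x ∈ img (e i), ∀ y ∈ img (e i), ind (x + y) = ind x + ind y + B x y := by
    intro i x hx y hy
    by_cases hx0 : x = 0
    · simp [ind, hx0]
    by_cases hy0 : y = 0
    · simp [ind, hy0]
    by_cases hxy : x = y
    · subst hxy
      have hz : x + x = 0 := by rw [← two_smul F x, ← one_add_one_eq_two, h11, zero_smul]
      simp [ind, hz, hx0, h11, (AA).alt, B]
    have hs : x + y ≠ 0 := fun h => hxy (by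
      rw [eq_neg_of_add_eq_zero_left h, ← neg_one_smul F y, show (-1 : F) = 1 by linear_combination -h11, one_smul])
    have hBxy : B x y = 1 := (hall _).resolve_left fun h => by
      have hli : LinearIndependent F ![x, y] := by
        rw [LinearIndependent.pair_iff' hx0]
        intro a ha
        rcases hall a with rfl | rfl
        · exact hy0 (by rw [← ha, zero_smul])
        · exact hxy (by rw [← ha, one_smul])
      have hspan : Submodule.span F {x, y} = img (e i) := by
        refine Submodule.eq_of_le_of_finrank_eq (Submodule.span_le.mpr ?_) ?_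
        · rintro z (rfl | rfl) <;> assumption
        · rw [hB.rank]
          have h2 := finrank_span_eq_card hli
          rw [Matrix.range_cons, Matrix.range_cons, Matrix.range_empty, Set.union_empty, Set.singleton_union,
            Fintype.card_fin] at h2
          exact h2
      obtain ⟨⟨z, hz, hz'⟩, -⟩ := hD.nondegenerate i x hx hx0
      rw [← hspan, Submodule.mem_span_pair] at hz
      obtain ⟨a, b, rfl⟩ := hz
      apply hz'
      rw [hBB, map_add, map_smul, map_smul, LinearMap.add_apply, LinearMap.smul_apply, LinearMap.smul_apply,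
        (AA).alt, (AA).skew y x, h, neg_zero, smul_zero, smul_zero, add_zero]
    simp [ind, hx0, hy0, hs, hBxy, h11]
  have hpol : ∀ u v : VV, QuadraticMap.polar Q u v = B u v := fun u v => by
    show Q (u + v) - Q u - Q v = B u v
    simp only [Q, ← Finset.sum_sub_distrib]
    conv_rhs => arg 2; rw [← Matrix.one_mulVec v, ← hB.sum_eq, Matrix.sum_mulVec]
    rw [map_sum]
    refine Finset.sum_congr rfl fun i _ => ?_
    rw [Matrix.mulVec_add, hplane i (e i *ᵥ u) ⟨u, rfl⟩ (e i *ᵥ v) ⟨v, rfl⟩]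
    have h : B (e i *ᵥ u) (e i *ᵥ v) = B u (e i *ᵥ v) := by
      rw [← hBB, adj_spec, hB.selfAdj, Matrix.mulVec_mulVec, hB.idem, hBB]
    rw [h]; ring
  have hpolEq : QuadraticMap.polar Q = ff := funext fun u => funext fun v => (hpol u v).trans (stdAlt_apply u v)
  refine ⟨Q, ⟨fun c v => ?_, by rw [hpolEq]; exact sp_bilinear, by rw [hpolEq]; exact sp_symplectic.nondegenerate⟩,
    fun u v => (hpol u v).trans (stdAlt_apply u v), fun g hg => ⟨1, fun v => ?_⟩⟩
  · rcases hall c with rfl | rfl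
    · simp [Q, ind]
    · simp
  · obtain ⟨σ, hσ⟩ := hB.perm g hg
    show ∑ i, ind (e i *ᵥ ((g : MM) *ᵥ v)) = ((1 : Fˣ) : F) * ∑ i, ind (e i *ᵥ v)
    rw [Units.val_one, one_mul, ← Equiv.sum_comp σ]
    refine Finset.sum_congr rfl fun i _ => ?_
    rw [← hσ i, Matrix.mulVec_mulVec, mul_assoc, Units.inv_mul, mul_one, ← Matrix.mulVec_mulVec]
    by_cases h0 : e i *ᵥ v = 0
    · simp [ind, h0]
    · have : (g : MM) *ᵥ (e i *ᵥ v) ≠ 0 := fun h => h0
        (Matrix.mulVec_injective_iff_isUnit.mpr g.isUnit (h.trans (Matrix.mulVec_zero _).symm))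
      simp only [ind, if_neg h0, if_neg this]

end Cfsg.Agent.Lib.SympTwelve
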