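import Cfsg.Agent.Lib.SympTwoPrime.Field
import Cfsg.Agent.Lib.SympTwelve.Blocks
import Cfsg.Agent.Lib.SympTwelve.Defs

/-!
helper12: reducible, decomposition and field cases for the symplectic group in dimension twelve.
-/

set_option autoImplicit false
set_option linter.unusedSectionVars false

namespace Cfsg.Agent.Lib.SympTwelve

open Matrix Cfsg.Geo Cfsg.Agent.Lib.MaxSub Cfsg.Agent.Lib.SympTwoPrime
open scoped MatrixGroups Matrix

variable {m : ℕ} {F : Type*} [Field F]

local notation "II" => (Fin m ⊕ Fin m)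
local notation "MM" => Matrix (Fin m ⊕ Fin m) (Fin m ⊕ Fin m) F
local notation "VV" => (Fin m ⊕ Fin m → F)
local notation "GG" => Matrix.GeneralLinearGroup (Fin m ⊕ Fin m) F
local notation "ff" => Cfsg.sympForm m F
local notation "SP" => Cfsg.spGL m F
local notation "AA" => Cfsg.Agent.Lib.MaxSub.stdAlt m F

/-- A subfield of degree `s` inside a normalised adjoint closed field of degree `r`. -/
theorem exists_sub [Fintype F] (hm : 0 < m) {r s : ℕ} (hs : s ∣ r) (hr : 0 < r) {K : Subalgebra F MM}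
    (hK : IsFieldSubalgebra r K) (hadj : IsAdjointClosedFor ff K) :
    ∃ L : Subalgebra F MM, IsFieldSubalgebra s L ∧ IsAdjointClosedFor ff L ∧
      ∀ h : GG, h ∈ subalgebraNormalizer K → h ∈ subalgebraNormalizer L := by
  haveI : Nonempty II := ⟨Sum.inl ⟨0, hm⟩⟩
  letI : CommRing K :=
    { (inferInstance : Ring K) with mul_comm := fun a b => Subtype.ext (hK.comm _ a.2 _ b.2) }
  haveI : Nontrivial K := ⟨⟨0, 1, fun h => zero_ne_one (α := MM) (congrArg Subtype.val h)⟩⟩
  have hf : IsField K := ⟨⟨0, 1, zero_ne_one⟩, mul_comm, fun {a} ha => by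
    obtain ⟨y, hy, hay⟩ := hK.inv _ a.2 fun h => ha (Subtype.ext h)
    exact ⟨⟨y, hy⟩, Subtype.ext hay⟩⟩
  letI : _root_.Field K := hf.toField
  haveI : Finite K := Finite.of_injective (fun x : K => (x : MM)) Subtype.val_injective
  have hrank : Module.finrank F K = r := hK.finrank_eq
  have hcard : Nat.card (K ≃ₐ[F] K) = r := by rw [IsGalois.card_aut_eq_finrank, hrank]
  obtain ⟨g, hg⟩ := IsCyclic.exists_ofOrder_eq_natCard (α := K ≃ₐ[F] K)
  obtain ⟨τ, hτ⟩ : ∃ τ : K ≃ₐ[F] K, orderOf τ = r / s := by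
    refine ⟨g ^ s, ?_⟩
    rw [orderOf_pow, hg, hcard, Nat.gcd_eq_right hs]
  let L0 : IntermediateField F K := IntermediateField.fixedField (Subgroup.zpowers τ)
  have hfin2 : Module.finrank L0 K = r / s := by
    rw [IntermediateField.finrank_fixedField_eq_card, Nat.card_zpowers, hτ]
  have hfinm : Module.finrank F L0 = s := by
    have h := Module.finrank_mul_finrank F L0 K
    rw [hfin2, hrank] at h
    have hs' := Nat.mul_div_cancel' hs
    have hpos : 0 < r / s := Nat.div_pos (Nat.le_of_dvd hr hs) (Nat.pos_of_dvd_of_pos hs hr)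
    exact Nat.eq_of_mul_eq_mul_right hpos (h.trans hs'.symm)
  have hmem : ∀ x : K, x ∈ L0 ↔ τ x = x := by
    intro x
    constructor
    · intro hx; exact hx ⟨τ, Subgroup.mem_zpowers τ⟩
    · rintro hx ⟨g, hg⟩
      have hle : Subgroup.zpowers τ ≤ MulAction.stabilizer (K ≃ₐ[F] K) x :=
        Subgroup.zpowers_le.mpr hx
      exact hle hg
  have hcommute : ∀ a : K ≃ₐ[F] K, ∀ x : K, τ x = x → τ (a x) = a x := by
    intro a x hx
    letI := IsCyclic.commGroup (α := K ≃ₐ[F] K)
    have h : τ * a = a * τ := mul_comm τ a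
    have h2 := congrArg (fun g : K ≃ₐ[F] K => g x) h
    simp only [AlgEquiv.mul_apply] at h2
    rw [h2, hx]
  let L : Subalgebra F MM := L0.toSubalgebra.map K.val
  have hLmem : ∀ k : MM, k ∈ L ↔ ∃ hk : k ∈ K, τ ⟨k, hk⟩ = ⟨k, hk⟩ := by
    intro k
    constructor
    · rintro ⟨x, hx, rfl⟩
      exact ⟨x.2, (hmem x).mp hx⟩
    · rintro ⟨hk, h⟩
      exact ⟨⟨k, hk⟩, (hmem _).mpr h, rfl⟩
  refine ⟨L, ⟨?_, ?_, ?_⟩, ?_, ?_⟩
  · rintro x hx y hy
    obtain ⟨hx', -⟩ := (hLmem x).mp hx
    obtain ⟨hy', -⟩ := (hLmem y).mp hy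
    exact hK.comm x hx' y hy'
  · intro x hx hx0
    obtain ⟨hx', hfix⟩ := (hLmem x).mp hx
    obtain ⟨y, hy, hxy⟩ := hK.inv x hx' hx0
    refine ⟨y, (hLmem y).mpr ⟨hy, ?_⟩, hxy⟩
    have h1 : (⟨x, hx'⟩ : K) * ⟨y, hy⟩ = 1 := Subtype.ext hxy
    have h2 := congrArg τ h1
    rw [map_mul, map_one, hfix, ← h1] at h2
    exact mul_left_cancel₀ (fun h => hx0 (congrArg Subtype.val h)) h2
  · have e := (L0.toSubalgebra.equivMapOfInjective K.val Subtype.val_injective).toLinearEquiv.finrank_eq
    exact e.symm.trans hfinm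
  · -- adjoint closed
    choose a ha hadj' using fun k : K => hadj k k.2
    have huniq : ∀ (k : K) (k' : MM), (∀ u v : VV, ff ((k : MM) *ᵥ u) v = ff u (k' *ᵥ v)) → a k = k' :=
      fun k k' h => sp_ext fun u v => by rw [← hadj' k u v, h u v]
    let φ : K →ₐ[F] K :=
      { toFun := fun k => ⟨a k, ha k⟩
        map_one' := Subtype.ext (huniq 1 1 fun u v => by simp)
        map_mul' := fun x y => Subtype.ext ((huniq (x * y) (a y * a x) fun u v => by
          rw [Subalgebra.coe_mul, ← Matrix.mulVec_mulVec, ← Matrix.mulVec_mulVec, hadj', hadj']).trans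
            (hK.comm _ (ha y) _ (ha x)))
        map_zero' := Subtype.ext (huniq 0 0 fun u v => by
          simp only [← stdAlt_apply, ZeroMemClass.coe_zero, Matrix.zero_mulVec, map_zero, LinearMap.zero_apply])
        map_add' := fun x y => Subtype.ext (huniq (x + y) (a x + a y) fun u v => by
          have h1 := hadj' x u v
          have h2 := hadj' y u v
          simp only [← stdAlt_apply] at h1 h2 ⊢
          simp only [Subalgebra.coe_add, Matrix.add_mulVec, map_add, LinearMap.add_apply, h1, h2])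
        commutes' := fun c => Subtype.ext (huniq _ (algebraMap F MM c) fun u v => by
          simp only [← stdAlt_apply, Algebra.algebraMap_eq_smul_one, SetLike.val_smul, OneMemClass.coe_one, Matrix.smul_mulVec,
            Matrix.one_mulVec, map_smul, LinearMap.smul_apply, SetLike.val_smul, OneMemClass.coe_one]) }
    intro k hk
    obtain ⟨hk', hfix⟩ := (hLmem k).mp hk
    refine ⟨a ⟨k, hk'⟩, (hLmem _).mpr ⟨ha _, ?_⟩, hadj' ⟨k, hk'⟩⟩
    exact hcommute (AlgEquiv.ofBijective φ φ.bijective) ⟨k, hk'⟩ hfix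
  · intro h hh k
    let ψ : K ≃ₐ[F] K := AlgEquiv.ofBijective
      ({ toFun := fun x => ⟨(h : MM) * x * ((h⁻¹ : GG) : MM), (hh x).mp x.2⟩
         map_one' := Subtype.ext (by simp [← Units.val_mul])
         map_mul' := fun x y => Subtype.ext (by simp [mul_assoc])
         map_zero' := Subtype.ext (by simp)
         map_add' := fun x y => Subtype.ext (by simp [mul_add, add_mul])
         commutes' := fun c => Subtype.ext (by
           simp [Algebra.algebraMap_eq_smul_one, ← Units.val_mul]) } : K →ₐ[F] K) (AlgHom.bijective _)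
    constructor
    · intro hk
      obtain ⟨hk', hfix⟩ := (hLmem k).mp hk
      exact (hLmem _).mpr ⟨(hh k).mp hk', hcommute ψ ⟨k, hk'⟩ hfix⟩
    · intro hk
      obtain ⟨hk', hfix⟩ := (hLmem _).mp hk
      have hk0 : k ∈ K := (hh k).mpr hk'
      have h2 := hcommute ψ⁻¹ (ψ ⟨k, hk0⟩) hfix
      have h3 : ψ⁻¹ (ψ ⟨k, hk0⟩) = ⟨k, hk0⟩ := AlgEquiv.symm_apply_apply ψ _
      rw [h3] at h2
      exact (hLmem _).mpr ⟨hk0, h2⟩

/-- A non-degenerate subspace of a symplectic space has even dimension. -/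
theorem even_of_nondegenerate : ∀ W : Submodule F VV, IsNondegenerateOn ff W → Even (Module.finrank F W) := by
  intro W
  induction hW : Module.finrank F W using Nat.strong_induction_on generalizing W with
  | _ n ih =>
    intro hnd
    by_cases hn : n = 0
    · exact hn ▸ Even.zero
    obtain ⟨v, hv, hv0⟩ := (Submodule.ne_bot_iff W).mp fun h => hn (by rw [← hW, h, finrank_bot])
    let B := (AA).B
    have hB : ∀ u w, ff u w = B u w := fun u w => (stdAlt_apply u w).symm
    obtain ⟨-, y₀, hy₀, hvy₀⟩ := hnd v hv hv0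
    rw [hB] at hvy₀
    obtain ⟨y, hy, hvy⟩ : ∃ y ∈ W, B v y = 1 := ⟨(B v y₀)⁻¹ • y₀, W.smul_mem _ hy₀, by
      rw [map_smul, smul_eq_mul, inv_mul_cancel₀ hvy₀]⟩
    have hyv : B y v = -1 := by rw [(AA).skew, hvy]
    let φ : VV →ₗ[F] F × F := (B v).prod (B y)
    have hsplit : ∀ z ∈ W, ∃ u ∈ W, z - u ∈ W ⊓ LinearMap.ker φ ∧
        ∀ x ∈ W ⊓ LinearMap.ker φ, B u x = 0 := by
      intro z hz
      refine ⟨(-(B y z)) • v + B v z • y, W.add_mem (W.smul_mem _ hv) (W.smul_mem _ hy),
        ⟨W.sub_mem hz (W.add_mem (W.smul_mem _ hv) (W.smul_mem _ hy)), ?_⟩, ?_⟩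
      · rw [SetLike.mem_coe, LinearMap.mem_ker]
        refine Prod.ext ?_ ?_ <;>
          simp only [φ, LinearMap.prod_apply, Function.prod_apply, map_sub, map_add, map_smul, smul_eq_mul, (AA).alt, hvy,
            hyv, Prod.fst_zero, Prod.snd_zero, Prod.fst_sub, Prod.snd_sub, Prod.fst_add, Prod.snd_add, Prod.smul_fst, Prod.smul_snd, B] <;> ring
      · rintro x ⟨-, hx⟩
        rw [SetLike.mem_coe, LinearMap.mem_ker] at hx
        have h1 : B v x = 0 := congrArg Prod.fst hx
        have h2 : B y x = 0 := congrArg Prod.snd hx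
        simp only [map_add, map_smul, LinearMap.add_apply, LinearMap.smul_apply, h1, h2, smul_zero, add_zero]
    have hnd' : IsNondegenerateOn ff (W ⊓ LinearMap.ker φ) := by
      rintro x hx hx0
      obtain ⟨-, z, hz, hxz⟩ := hnd x hx.1 hx0
      obtain ⟨u, -, hzu, hu⟩ := hsplit z hz
      have hne : ff x (z - u) ≠ 0 := by
        rw [hB, map_sub, (AA).skew x u, hu x hx, neg_zero, sub_zero, ← hB]
        exact hxz
      exact ⟨⟨_, hzu, by rw [skewB]; exact neg_ne_zero.mpr hne⟩, ⟨_, hzu, hne⟩⟩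
    let ψ : W →ₗ[F] F × F := φ.comp W.subtype
    have hψ : LinearMap.range ψ = ⊤ := by
      refine LinearMap.range_eq_top.mpr fun c => ⟨⟨(-c.2) • v + c.1 • y,
        W.add_mem (W.smul_mem _ hv) (W.smul_mem _ hy)⟩, ?_⟩
      refine Prod.ext ?_ ?_ <;>
        simp only [ψ, φ, LinearMap.comp_apply, Submodule.subtype_apply, LinearMap.prod_apply, Function.prod_apply, map_add,
          map_smul, smul_eq_mul, Prod.fst_add, Prod.snd_add, Prod.smul_fst, Prod.smul_snd, (AA).alt, hvy, hyv, B] <;> ring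
    have h := LinearMap.finrank_range_add_finrank_ker ψ
    rw [hψ, finrank_top, Module.finrank_prod, Module.finrank_self, hW] at h
    have hk : Module.finrank F (LinearMap.ker ψ) = Module.finrank F ↥(W ⊓ LinearMap.ker φ) := by
      have hmap : (LinearMap.ker ψ).map W.subtype = W ⊓ LinearMap.ker φ := by
        rw [LinearMap.ker_comp, Submodule.map_comap_eq, Submodule.range_subtype]
      rw [← hmap]
      exact (Submodule.equivMapOfInjective _ Subtype.val_injective _).finrank_eq
    have h2 := ih _ (by omega) (W ⊓ LinearMap.ker φ) rfl hnd'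
    rw [Nat.even_iff] at h2 ⊢
    omega

/-- A reducible maximal subgroup fixes a totally singular or small non-degenerate space or halves. -/
theorem reducible [Fintype F] (hm : 2 ≤ m) {H : Subgroup GG} (hH : IsMaximalIn SP H) {W : Submodule F VV}
    (h0 : W ≠ ⊥) (h1 : W ≠ ⊤) (hW : ∀ g ∈ H, ∀ w ∈ W, (g : MM) *ᵥ w ∈ W) :
    (∃ W : Submodule F VV, W ≠ ⊥ ∧ IsTotallySingularFor ff W ∧ H = subspaceStabilizer W ⊓ SP) ∨
    (∃ W : Submodule F VV, W ≠ ⊥ ∧ IsNondegenerateOn ff W ∧ Module.finrank F W < m ∧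
      H = subspaceStabilizer W ⊓ SP) ∨
    (∃ D : Fin 2 → Submodule F VV, IsNondegenerateMDecomposition ff m D ∧
      H = decompositionStabilizer D ⊓ SP) := by
  have hperp : ∀ U : Submodule F VV, (∀ g ∈ H, ∀ w ∈ U, (g : MM) *ᵥ w ∈ U) →
      ∀ g ∈ H, ∀ w ∈ (AA).perp U, (g : MM) *ᵥ w ∈ (AA).perp U := by
    intro U hU g hg w hw u hu
    have h := (AA).preserves_inv_left (g := g) (mem_spGL_iff.mp (hH.1.le hg)) u w
    rw [← h]
    exact hw _ (hU _ (H.inv_mem hg) u hu)
  by_cases hT : W ⊓ (AA).perp W = ⊥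
  · have hnd : ∀ U : Submodule F VV, U ⊓ (AA).perp U = ⊥ → IsNondegenerateOn ff U := by
      intro U hU x hx hx0
      obtain ⟨z, hz, hz'⟩ : ∃ z ∈ U, (AA).B z x ≠ 0 := by
        by_contra hc
        push Not at hc
        exact hx0 ((Submodule.mem_bot F).mp (hU ▸ ⟨hx, hc⟩))
      rw [stdAlt_apply] at hz'
      exact ⟨⟨z, hz, hz'⟩, ⟨z, hz, by rw [skewB]; exact neg_ne_zero.mpr hz'⟩⟩
    have hndp : IsNondegenerateOn ff ((AA).perp W) :=
      hnd _ (by rw [(AA).perp_perp, inf_comm]; exact hT)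
    have hdim : Module.finrank F W + Module.finrank F ↥((AA).perp W) = 2 * m := by
      have e1 : Module.finrank F ↥((AA).perp W) + Module.finrank F W ≤ 2 * m := by
        have h := Submodule.finrank_sup_add_finrank_inf_eq W ((AA).perp W)
        rw [hT, finrank_bot] at h
        have := Submodule.finrank_le (W ⊔ (AA).perp W)
        rw [Module.finrank_pi, Fintype.card_sum, Fintype.card_fin] at this
        omega
      let φ : VV →ₗ[F] (W →ₗ[F] F) := (AA).B.flip.compl₂ W.subtype
      have hker : LinearMap.ker φ ≤ (AA).perp W := fun x hx w hw => by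
        rw [LinearMap.mem_ker] at hx
        exact LinearMap.congr_fun hx ⟨w, hw⟩
      have h := LinearMap.finrank_range_add_finrank_ker φ
      have h3 := Submodule.finrank_le (LinearMap.range φ)
      rw [Module.finrank_linearMap_self] at h3
      have h4 := Submodule.finrank_mono hker
      rw [Module.finrank_pi, Fintype.card_sum, Fintype.card_fin] at h
      omega
    have htop : W ⊔ (AA).perp W = ⊤ := by
      refine Submodule.eq_top_of_finrank_eq ?_
      have h := Submodule.finrank_sup_add_finrank_inf_eq W ((AA).perp W)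
      rw [hT, finrank_bot] at h
      rw [Module.finrank_pi, Fintype.card_sum, Fintype.card_fin]
      omega
    have hp0 : (AA).perp W ≠ ⊥ := fun h => h1 (by rwa [h, sup_bot_eq] at htop)
    rcases lt_trichotomy (Module.finrank F W) m with hlt | heq | hgt
    · exact Or.inr (Or.inl ⟨W, h0, hnd W hT, hlt, eq_inf_of_le hH
        (fun g hg => MaxSub.mem_subspaceStabilizer (hW g hg)) (not_le_subspaceStabilizer h0 h1)⟩)
    · let D : Fin 2 → Submodule F VV := ![W, (AA).perp W]
      have hdec : IsMDecomposition m D := by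
        refine ⟨le_rfl, by omega, fun i => ?_, ?_, ?_⟩
        · fin_cases i
          · exact heq
          · show Module.finrank F ↥((AA).perp W) = m
            omega
        · intro i
          fin_cases i
          · exact (disjoint_iff.mpr hT).mono_right
              (iSup₂_le fun j hj => by fin_cases j <;> first | exact absurd rfl hj | exact le_rfl)
          · exact (disjoint_iff.mpr hT).symm.mono_right
              (iSup₂_le fun j hj => by fin_cases j <;> first | exact absurd rfl hj | exact le_rfl)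
        · exact top_unique (htop ▸ sup_le (le_iSup D 0) (le_iSup D 1))
      refine Or.inr (Or.inr ⟨D, ⟨hdec, fun i => ?_, fun i j hij u hu v hv => ?_⟩, eq_inf_of_le hH (fun g hg => ?_)
        (not_le_decompositionStabilizer hm hdec)⟩)
      · fin_cases i
        · exact hnd W hT
        · exact hndp
      · rw [← stdAlt_apply]
        fin_cases i <;> fin_cases j <;> first | exact absurd rfl hij | skip
        · exact hv u hu
        · exact (AA).mem_perp' hu hv
      · refine ⟨Equiv.refl _, fun i => ?_⟩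
        have hmap : ∀ U : Submodule F VV, (∀ w ∈ U, (g : MM) *ᵥ w ∈ U) →
            U.map (Matrix.toLin' (g : MM)) = U := by
          intro U hU
          refine Submodule.eq_of_le_of_finrank_eq ?_ ?_
          · rintro _ ⟨w, hw, rfl⟩; exact hU w hw
          · exact (Submodule.equivMapOfInjective _ (by
              intro a b hab
              simp only [Matrix.toLin'_apply] at hab
              exact Matrix.mulVec_injective_iff_isUnit.mpr g.isUnit hab) U).finrank_eq.symm
        fin_cases i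
        · exact hmap W (hW g hg)
        · exact hmap _ (hperp W hW g hg)
    · exact Or.inr (Or.inl ⟨_, hp0, hndp, by omega, eq_inf_of_le hH
        (fun g hg => MaxSub.mem_subspaceStabilizer (hperp W hW g hg)) (not_le_subspaceStabilizer hp0 fun h => h0 (by
          rw [← (AA).perp_perp W, h]
          exact (Submodule.eq_bot_iff _).mpr fun x hx => (AA).nondeg x fun u => hx u trivial))⟩)
  · refine Or.inl ⟨W ⊓ (AA).perp W, hT, fun u hu v hv => ?_, eq_inf_of_le hH
      (fun g hg => MaxSub.mem_subspaceStabilizer fun w hw => ⟨hW g hg w hw.1, hperp W hW g hg w hw.2⟩)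
      (not_le_subspaceStabilizer hT fun h => h1 (top_unique (h.ge.trans inf_le_left)))⟩
    rw [← stdAlt_apply]
    exact hv.2 u hu.1

/-- Characteristic two: a field of degree two that is not self-adjoint fixes a quadratic form. -/
theorem quad_of_field [Fintype F] (hm : 2 ≤ m) {H : Subgroup GG} (hH : H ≤ SP) {K : Subalgebra F MM}
    (hK : IsFieldSubalgebra 2 K) (hadj : IsAdjointClosedFor ff K) (hsa : ¬ IsSelfAdjointFor ff K)
    (hnorm : ∀ h ∈ H, h ∈ subalgebraNormalizer K) (h2 : (2 : F) = 0) :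
    ∃ Q : VV → F, IsNondegenerateQuadraticForm Q ∧ (∀ u v : VV, QuadraticMap.polar Q u v = ff u v) ∧
      H ≤ quadSimilarityGroup Q := by
  obtain ⟨ω, s, t, hω, hsq, hroot, hall⟩ := exists_quad_gen (by omega) hK
  let B := (AA).B
  have hB : ∀ u w, ff u w = B u w := fun u w => (stdAlt_apply u w).symm
  obtain ⟨ω', hω', hadjω⟩ := hadj ω hω
  have hne : ω' ≠ ω := fun h => hsa fun k hk u v => by
    obtain ⟨a, b, rfl⟩ := hall k hk
    have h1 := hadjω u v
    rw [h] at h1
    simp only [hB] at h1 ⊢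
    simp only [Matrix.add_mulVec, Matrix.smul_mulVec, Matrix.one_mulVec, map_add, map_smul, LinearMap.add_apply,
      LinearMap.smul_apply, h1]
  have hsq' : ω' * ω' = s • ω' + t • (1 : MM) := sp_ext fun u v => by
    have h1 := hadjω (ω *ᵥ u) v
    rw [Matrix.mulVec_mulVec, hsq, hadjω u, Matrix.mulVec_mulVec] at h1
    rw [← h1, Matrix.add_mulVec, Matrix.smul_mulVec, Matrix.smul_mulVec, Matrix.one_mulVec]
    have h3 := hadjω u v
    simp only [hB] at h3 ⊢
    simp only [Matrix.add_mulVec, Matrix.smul_mulVec, Matrix.one_mulVec, map_add, map_smul, LinearMap.add_apply,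
      LinearMap.smul_apply, h3]
  have hsum : ω + ω' = s • (1 : MM) := by
    have hz : (ω' - ω) * (ω' + ω - s • (1 : MM)) = 0 := by
      have hc := hK.comm ω' hω' ω hω
      simp only [sub_mul, mul_sub, mul_add, Matrix.mul_smul, mul_one, hsq, hsq', hc]
      module
    obtain ⟨y, hy, hxy⟩ := hK.inv _ (K.sub_mem hω' hω) (sub_ne_zero.mpr hne)
    have h := congrArg (y * ·) hz
    simp only [← mul_assoc, mul_zero] at h
    rw [hK.comm y hy _ (K.sub_mem hω' hω), hxy, one_mul] at h
    rw [add_comm]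
    exact sub_eq_zero.mp h
  have hs : s ≠ 0 := fun h0 => by
    rw [h0, zero_smul] at hsum
    refine hne ?_
    have h3 : ω + ω = 0 := by rw [← two_smul F, h2, zero_smul]
    exact add_left_cancel (hsum.trans h3.symm)
  have hpol0 : ∀ u v, B (ω *ᵥ u) v + B (ω *ᵥ v) u = s * B u v := by
    intro u v
    have h3 : B (ω *ᵥ v) u = B (ω' *ᵥ u) v := by
      rw [show B (ω *ᵥ v) u = B v (ω' *ᵥ u) by rw [← hB, ← hB]; exact hadjω v u, (AA).skew,
        neg_eq_iff_add_eq_zero, ← two_mul, h2, zero_mul]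
    rw [h3, ← LinearMap.add_apply, ← map_add, ← Matrix.add_mulVec, hsum, Matrix.smul_mulVec,
      Matrix.one_mulVec, map_smul, LinearMap.smul_apply, smul_eq_mul]
  let Q : VV → F := fun v => s⁻¹ * B (ω *ᵥ v) v
  have hpol : ∀ u v : VV, QuadraticMap.polar Q u v = B u v := fun u v => by
    show s⁻¹ * B (ω *ᵥ (u + v)) (u + v) - s⁻¹ * B (ω *ᵥ u) u - s⁻¹ * B (ω *ᵥ v) v = B u v
    rw [Matrix.mulVec_add]
    simp only [map_add, LinearMap.add_apply]
    rw [← mul_sub, ← mul_sub]
    rw [show B (ω *ᵥ u) u + B (ω *ᵥ v) u + (B (ω *ᵥ u) v + B (ω *ᵥ v) v) - B (ω *ᵥ u) u - B (ω *ᵥ v) v =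
      B (ω *ᵥ u) v + B (ω *ᵥ v) u by ring, hpol0, ← mul_assoc, inv_mul_cancel₀ hs, one_mul]
  have hpolEq : QuadraticMap.polar Q = ff := funext fun u => funext fun v => (hpol u v).trans (stdAlt_apply u v)
  have hQ : IsNondegenerateQuadraticForm Q :=
    ⟨fun c v => by
      show s⁻¹ * B (ω *ᵥ (c • v)) (c • v) = c ^ 2 * (s⁻¹ * B (ω *ᵥ v) v)
      simp only [Matrix.mulVec_smul, map_smul, LinearMap.smul_apply, smul_eq_mul]; ring,
      by rw [hpolEq]; exact sp_bilinear, by rw [hpolEq]; exact sp_symplectic.nondegenerate⟩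
  refine ⟨Q, hQ, fun u v => (hpol u v).trans (stdAlt_apply u v), fun h hh => ⟨1, fun v => ?_⟩⟩
  have hi : h⁻¹ ∈ H := H.inv_mem hh
  have hp : (AA).Preserves h := mem_spGL_iff.mp (hH hh)
  have hk : ((h⁻¹ : GG) : MM) * ω * (h : MM) ∈ K := by
    simpa using (hnorm _ hi ω).mp hω
  set w := ((h⁻¹ : GG) : MM) * ω * (h : MM) with hw
  have hwsq : w * w = s • w + t • (1 : MM) := by
    rw [hw]
    calc _ = ((h⁻¹ : GG) : MM) * (ω * ω) * (h : MM) := by simp [mul_assoc]
      _ = _ := by rw [hsq]; simp [mul_add, add_mul, ← Units.val_mul]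
  have hw2 : w = ω ∨ w = ω' := by
    have hz : (w - ω) * (w - ω') = 0 := by
      have e : ω' = s • (1 : MM) - ω := eq_sub_of_add_eq' hsum
      rw [e]
      have hc := hK.comm w hk ω hω
      simp only [sub_mul, mul_sub, Matrix.mul_smul, mul_one, hwsq, hsq, hc]
      module
    by_cases h0 : w - ω = 0
    · exact Or.inl (sub_eq_zero.mp h0)
    obtain ⟨y, hy, hxy⟩ := hK.inv _ (K.sub_mem hk hω) h0
    have h' := congrArg (y * ·) hz
    simp only [← mul_assoc, mul_zero] at h'
    rw [hK.comm y hy _ (K.sub_mem hk hω), hxy, one_mul] at h'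
    exact Or.inr (sub_eq_zero.mp h')
  show s⁻¹ * B (ω *ᵥ ((h : MM) *ᵥ v)) ((h : MM) *ᵥ v) = ((1 : Fˣ) : F) * (s⁻¹ * B (ω *ᵥ v) v)
  rw [Units.val_one, one_mul]
  congr 1
  have hhw : ω *ᵥ ((h : MM) *ᵥ v) = (h : MM) *ᵥ (w *ᵥ v) := by
    rw [hw, Matrix.mulVec_mulVec, Matrix.mulVec_mulVec, ← mul_assoc, ← mul_assoc, ← Units.val_mul,
      mul_inv_cancel, Units.val_one, one_mul]
  rw [hhw, hp]
  rcases hw2 with e | e <;> rw [e]
  rw [(AA).skew, neg_eq_iff_add_eq_zero]
  have h3 : B v (ω' *ᵥ v) = B (ω *ᵥ v) v := by rw [← hB, ← hB]; exact (hadjω v v).symm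
  rw [h3, ← two_mul, h2, zero_mul]

end Cfsg.Agent.Lib.SympTwelve
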