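import Cfsg.Agent.Lib.SympTwelve.Steps
import Cfsg.Agent.Lib.SympTwoPrime.Forms
import Cfsg.Agent.Lib.TwelveDim.Core
import Cfsg.Agent.Lib.TwoPrimeDim.Homogeneous

/-!
helper12: the maximal subgroups of the symplectic group in dimension twelve, given the step for tensor products.
-/

set_option autoImplicit false
set_option linter.unusedSectionVars false

namespace Cfsg.Agent.Lib.SympTwelve

open Matrix Module Cfsg.Geo
open scoped MatrixGroups Matrix

variable {F : Type*} [Field F] [Fintype F]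

local notation "II" => (Fin 6 ⊕ Fin 6)
local notation "MM" => Matrix (Fin 6 ⊕ Fin 6) (Fin 6 ⊕ Fin 6) F
local notation "VV" => (Fin 6 ⊕ Fin 6 → F)
local notation "GG" => Matrix.GeneralLinearGroup (Fin 6 ⊕ Fin 6) F
local notation "SP" => Cfsg.spGL 6 F
local notation "ff" => Cfsg.sympForm 6 F
local notation "ZZ" => Cfsg.Geo.scalars (Fin 6 ⊕ Fin 6) F

/-- What is needed about homogeneous normal subgroups with two tensor factors. -/
def TensorStep (H : Subgroup GG) : Prop :=
  ∀ (N : Subgroup GG), N ≤ H → (∀ g ∈ H, ∀ x ∈ N, g * x * g⁻¹ ∈ N) →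
    ∀ (d k : ℕ) (A : N → Matrix (Fin d) (Fin d) F) (φ : Fin k → (Fin d → F) →ₗ[F] VV),
      (∀ U : Submodule F (Fin d → F), (∀ n, ∀ u ∈ U, A n *ᵥ u ∈ U) → U = ⊥ ∨ U = ⊤) →
      (∀ X : Matrix (Fin d) (Fin d) F, (∀ n, X * A n = A n * X) → ∃ c : F, X = c • 1) →
      (∀ j (n : N) x, ((n : GG) : MM) *ᵥ φ j x = φ j (A n *ᵥ x)) →
      Function.Bijective (Cfsg.Agent.Lib.MaxTensor.assemble φ) → d * k = 12 → 1 < d → 1 < k → Cases H

theorem card_twelve : Fintype.card II = 12 := by simp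

theorem scalar_or_absIrred {H N : Subgroup GG} (hH : IsMaximalIn SP H) (hT : TensorStep H)
    (hirr : ActsIrreducibly (matrixSet H)) (hcases : ¬ Cases H) (hN : N ≤ H)
    (hNG : ∀ g ∈ H, ∀ x ∈ N, g * x * g⁻¹ ∈ N) : N ≤ ZZ ∨ ActsAbsolutelyIrreducibly (matrixSet N) := by
  classical
  rcases TwoPrimeDim.centre_cases hirr hNG with ⟨r, hr, hK⟩ | ⟨t, w, e, hB⟩
  swap
  · exact absurd (blocks_cases hH (hN.trans hH.1.le) hB) hcases
  rw [card_twelve] at hr
  rcases Nat.lt_or_ge 1 r with h1 | h1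
  · exact absurd (field_cases hH _ hK h1 hr (fun k hk => ⟨adj k, adj_mem_centre (hN.trans hH.1.le) hk, adj_spec k⟩)
      fun h hh => TwoPrimeDim.centre_normalized hNG hh) hcases
  have hr1 : r = 1 := by
    rcases Nat.eq_zero_or_pos r with h | h
    · rw [h, Nat.zero_dvd] at hr
      omega
    · omega
  have hc : ∀ M ∈ TwoPrimeDim.centre N, ∃ c : F, M = c • (1 : MM) := by
    intro M hM
    obtain ⟨c, hcM⟩ := (finrank_eq_one_iff_of_nonzero'
      (⟨1, (TwoPrimeDim.centre N).one_mem⟩ : Subalgebra.toSubmodule (TwoPrimeDim.centre N))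
      (fun h => zero_ne_one (α := MM) (congrArg Subtype.val h).symm)).mp (hK.finrank_eq.trans hr1) ⟨M, hM⟩
    exact ⟨c, (congrArg Subtype.val hcM).symm⟩
  obtain ⟨d, k, A, φ, hdk, hd, hk, hAirr, hAscal, hφ, hbij⟩ := TwoPrimeDim.homogeneous hirr hNG hc
  rw [card_twelve] at hdk
  rcases eq_or_lt_of_le (Nat.one_le_iff_ne_zero.mpr hd.ne') with hd1 | hd1
  · left
    subst hd1
    intro x hx
    set a := A ⟨x, hx⟩ 0 0
    refine SLTwoPrime.mem_scalars_of_val (c := a) (TwoPrimeDim.eq_of_mulVec fun v => ?_)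
    obtain ⟨u, rfl⟩ := hbij.2 v
    have hA1 : ∀ y : Fin 1 → F, A ⟨x, hx⟩ *ᵥ y = a • y := fun y => by
      funext i
      obtain rfl : i = 0 := Subsingleton.elim _ _
      simp [Matrix.mulVec, dotProduct, a]
    simp only [MaxTensor.assemble, LinearMap.coe_mk, AddHom.coe_mk, Matrix.mulVec_sum,
      Matrix.smul_mulVec, Matrix.one_mulVec]
    exact Finset.sum_congr rfl fun j _ => by rw [hφ j ⟨x, hx⟩, hA1, map_smul]
  rcases eq_or_lt_of_le (Nat.one_le_iff_ne_zero.mpr hk.ne') with hk1 | hk1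
  swap
  · exact absurd (hT N hN hNG d k A φ hAirr hAscal hφ hbij hdk hd1 hk1) hcases
  right
  subst hk1
  have hval : ∀ u, MaxTensor.assemble φ u = φ 0 (u 0) := fun u => by simp [MaxTensor.assemble]
  have h0 : Function.Bijective (φ 0) := by
    refine ⟨fun a b hab => ?_, fun v => ?_⟩
    · exact congrFun (hbij.1 (a₁ := fun _ => a) (a₂ := fun _ => b) (by rw [hval, hval, hab])) 0
    · obtain ⟨u, rfl⟩ := hbij.2 v
      exact ⟨u 0, (hval u).symm⟩
  let Φ := LinearEquiv.ofBijective (φ 0) h0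
  refine ⟨(TwoPrimeDim.actsIrreducibly_iff N).mpr fun U hU => ?_, fun M hM => ?_⟩
  · rcases hAirr (U.comap (φ 0)) fun n u hu => by
        rw [Submodule.mem_comap] at hu ⊢
        rw [← hφ]
        exact hU n n.2 _ hu with h | h
    · left
      rw [← Submodule.map_comap_eq_of_surjective h0.2 U, h, Submodule.map_bot]
    · right
      rw [← Submodule.map_comap_eq_of_surjective h0.2 U, h, Submodule.map_top, LinearMap.range_eq_top.mpr h0.2]
  · let X := LinearMap.toMatrix' (Φ.symm.toLinearMap ∘ₗ Matrix.toLin' M ∘ₗ Φ.toLinearMap)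
    have hX : ∀ y, φ 0 (X *ᵥ y) = M *ᵥ φ 0 y := fun y => by
      rw [← Matrix.toLin'_apply X, Matrix.toLin'_toMatrix']
      simp only [LinearMap.comp_apply, LinearEquiv.coe_coe, Matrix.toLin'_apply]
      exact Φ.apply_symm_apply _
    obtain ⟨c, hcX⟩ := hAscal X fun n => Matrix.ext_of_mulVec_single fun i => h0.1 (by
      rw [← Matrix.mulVec_mulVec, ← Matrix.mulVec_mulVec, hX, ← hφ, ← hφ, hX, Matrix.mulVec_mulVec,
        Matrix.mulVec_mulVec, hM _ ⟨n, n.2, rfl⟩])
    refine ⟨c, TwoPrimeDim.eq_of_mulVec fun v => ?_⟩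
    obtain ⟨y, rfl⟩ := h0.2 v
    rw [← hX, hcX, Matrix.smul_mulVec, Matrix.one_mulVec, map_smul, Matrix.smul_mulVec, Matrix.one_mulVec]

/-- Every maximal subgroup is on the list, given the tensor step. -/
theorem maximal_cases_of {H : Subgroup GG} (hH : IsMaximalIn SP H) (hT : TensorStep H) : Cases H := by
  classical
  by_contra hcases
  have hirr : ActsIrreducibly (matrixSet H) := by
    refine (TwoPrimeDim.actsIrreducibly_iff H).mpr fun W hW => ?_
    by_contra h
    rw [not_or] at h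
    exact hcases (reducible_cases hH h.1 h.2 hW)
  have hns : ¬ H ≤ ZZ := by
    intro hle
    let v : VV := Pi.single (Sum.inl 0) 1
    have hv : v ≠ 0 := by simp [v]
    rcases (TwoPrimeDim.actsIrreducibly_iff H).mp hirr (F ∙ v) fun g hg w hw => by
        obtain ⟨c, hc⟩ := (mem_scalars_iff g).mp (hle hg)
        rw [hc, Matrix.smul_mulVec, Matrix.one_mulVec]
        exact Submodule.smul_mem _ _ hw with h | h
    · rw [Submodule.span_singleton_eq_bot] at h
      exact hv h
    · have h1 := finrank_span_singleton (K := F) hv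
      rw [h, finrank_top, Module.finrank_fintype_fun_eq_card, card_twelve] at h1
      omega
  obtain ⟨P, hle, hnorm, hPsc, hmin⟩ := TwelveDim.exists_minimal hns
  have habs := (scalar_or_absIrred hH hT hirr hcases hle hnorm).resolve_left hPsc
  have hC := TwelveDim.core card_twelve hle hnorm hPsc hmin habs
  rcases SympTwoPrime.forms (m := 6) (by norm_num) hH hC.le hC.normal hC.perfect hC.simple hC.nonabelian
    hC.centralizer_scalar hC.absIrred with h | h | h
  · exact hcases (Or.inr (Or.inr (Or.inr (Or.inr (Or.inr (Or.inr (Or.inr (Or.inr (Or.inr (Or.inr (Or.inr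
      (Or.inl h))))))))))))
  · exact hcases (Or.inr (Or.inr (Or.inr (Or.inr (Or.inr (Or.inr (Or.inr (Or.inr (Or.inr (Or.inr (Or.inr (Or.inr
      (Or.inl h)))))))))))))
  · exact hcases (Or.inr (Or.inr (Or.inr (Or.inr (Or.inr (Or.inr (Or.inr (Or.inr (Or.inr (Or.inr (Or.inr (Or.inr
      (Or.inr h)))))))))))))

end Cfsg.Agent.Lib.SympTwelve
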