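import Cfsg.Agent.Lib.SympTwelve.Geom
import Cfsg.Agent.Lib.SympTwelve.Defs

/-!
helper12: decomposition and field steps in dimension twelve.
-/

set_option autoImplicit false
set_option linter.unusedSectionVars false

namespace Cfsg.Agent.Lib.SympTwelve

open Matrix Cfsg.Geo Cfsg.Agent.Lib.MaxSub Cfsg.Agent.Lib.SympTwoPrime
open scoped MatrixGroups Matrix

variable {F : Type*} [Field F] [Fintype F]

local notation "MM" => Matrix (Fin 6 ⊕ Fin 6) (Fin 6 ⊕ Fin 6) F
local notation "VV" => (Fin 6 ⊕ Fin 6 → F)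
local notation "GG" => Matrix.GeneralLinearGroup (Fin 6 ⊕ Fin 6) F
local notation "ff" => Cfsg.sympForm 6 F
local notation "SP" => Cfsg.spGL 6 F

theorem two_eq_zero_of_not_odd (hq : ¬ Odd (Fintype.card F)) : (2 : F) = 0 := by
  have hc := FiniteField.even_card_iff_char_two.mpr (Nat.even_iff.mp (Nat.not_odd_iff_even.mp hq))
  haveI := ringChar.of_eq hc
  exact CharTwo.two_eq_zero

/-- Nine: the characteristic two orthogonal case. -/
theorem quad_case (hq : ¬ Odd (Fintype.card F)) {H : Subgroup GG} (hH : IsMaximalIn SP H) {Q : VV → F}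
    (hQ : IsNondegenerateQuadraticForm Q) (hpol : ∀ u v : VV, QuadraticMap.polar Q u v = ff u v)
    (hle : H ≤ quadSimilarityGroup Q) : Cases H :=
  Or.inr (Or.inr (Or.inr (Or.inr (Or.inr (Or.inr (Or.inr (Or.inr (Or.inr (Or.inr (Or.inr (Or.inr (Or.inl
    ⟨hq, Q, hQ, hpol, eq_inf_of_le hH hle (not_le_quadSimilarityGroup (by norm_num) hQ hpol)⟩))))))))))))

theorem reducible_cases {H : Subgroup GG} (hH : IsMaximalIn SP H) {W : Submodule F VV}
    (h0 : W ≠ ⊥) (h1 : W ≠ ⊤) (hW : ∀ g ∈ H, ∀ w ∈ W, (g : MM) *ᵥ w ∈ W) : Cases H := by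
  rcases reducible (by norm_num) hH h0 h1 hW with h | h | h
  · exact Or.inl h
  · exact Or.inr (Or.inl h)
  · exact Or.inr (Or.inr (Or.inr (Or.inr (Or.inl h))))

theorem nd_cases {H : Subgroup GG} (hH : IsMaximalIn SP H) {s v : ℕ} {e : Fin s → MM} (hsv : s * v = 12)
    (hB : NdBlocks H v e) : Cases H := by
  obtain ⟨hD, hle⟩ := hB.decomp
  have heq := eq_inf_of_le hH hle (not_le_decompositionStabilizer (by norm_num) hD.decomp)
  have hev : Even v := hD.decomp.finrank_eq ⟨0, by have := hB.two_le; omega⟩ ▸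
    even_of_nondegenerate _ (hD.nondegenerate _)
  have hs2 := hB.two_le
  have hv6 : v ≤ 6 := by
    have := Nat.mul_le_mul_right v hs2
    omega
  obtain ⟨c, rfl⟩ := hev
  have hc : c = 1 ∨ c = 2 ∨ c = 3 := by
    have := hB.pos
    omega
  rcases hc with rfl | rfl | rfl
  · obtain rfl : s = 6 := by omega
    by_cases h3 : 3 ≤ Fintype.card F
    · exact Or.inr (Or.inr (Or.inl ⟨h3, _, hD, heq⟩))
    · have hq : Fintype.card F = 2 := by
        have := Fintype.one_lt_card (α := F)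
        omega
      obtain ⟨Q, hQ, hpol, hQH⟩ := planes_two hH.1.le hq hB
      exact quad_case (by rw [hq]; decide) hH hQ hpol hQH
  · obtain rfl : s = 3 := by omega
    exact Or.inr (Or.inr (Or.inr (Or.inl ⟨_, hD, heq⟩)))
  · obtain rfl : s = 2 := by omega
    exact Or.inr (Or.inr (Or.inr (Or.inr (Or.inl ⟨_, hD, heq⟩))))

/-- A pair of complementary totally singular halves exchanged by `H`. -/
theorem pair_cases {H : Subgroup GG} (hH : IsMaximalIn SP H) {e₀ : MM} (hid : e₀ * e₀ = e₀)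
    (hadj : adj e₀ = 1 - e₀) (hr0 : Module.finrank F (TwoPrimeDim.img e₀) = 6)
    (hr1 : Module.finrank F (TwoPrimeDim.img (1 - e₀)) = 6)
    (hperm : ∀ g ∈ H, (g : MM) * e₀ * ((g⁻¹ : GG) : MM) = e₀ ∨ (g : MM) * e₀ * ((g⁻¹ : GG) : MM) = 1 - e₀) :
    Cases H := by
  by_cases hq : Odd (Fintype.card F)
  · let D : Fin 2 → Submodule F VV := ![TwoPrimeDim.img e₀, TwoPrimeDim.img (1 - e₀)]
    have hid1 : (1 - e₀) * (1 - e₀) = 1 - e₀ := by
      rw [sub_mul, one_mul, mul_sub, mul_one, hid, sub_self, sub_zero]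
    have hz : e₀ * (1 - e₀) = 0 := by rw [mul_sub, mul_one, hid, sub_self]
    have hdisj : Disjoint (TwoPrimeDim.img e₀) (TwoPrimeDim.img (1 - e₀)) := by
      rw [Submodule.disjoint_def]
      intro x hx hx'
      rw [← (TwoPrimeDim.mem_img_idem hid).mp hx, ← (TwoPrimeDim.mem_img_idem hid1).mp hx', Matrix.mulVec_mulVec,
        hz, Matrix.zero_mulVec]
    have hdec : IsMDecomposition 6 D := by
      refine ⟨le_rfl, by norm_num, fun i => ?_, ?_, ?_⟩
      · fin_cases i
        · exact hr0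
        · exact hr1
      · intro i
        fin_cases i
        · exact hdisj.mono_right
            (iSup₂_le fun j hj => by fin_cases j <;> first | exact absurd rfl hj | exact le_rfl)
        · exact hdisj.symm.mono_right
            (iSup₂_le fun j hj => by fin_cases j <;> first | exact absurd rfl hj | exact le_rfl)
      · refine top_unique fun v _ => ?_
        rw [show v = e₀ *ᵥ v + (1 - e₀) *ᵥ v by rw [← Matrix.add_mulVec, add_sub_cancel, Matrix.one_mulVec]]
        exact add_mem (Submodule.mem_iSup_of_mem 0 ⟨v, rfl⟩) (Submodule.mem_iSup_of_mem 1 ⟨v, rfl⟩)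
    have hts : ∀ (X : MM), X * X = X → adj X = 1 - X → IsTotallySingularFor ff (TwoPrimeDim.img X) := by
      intro X hX hXa u hu v hv
      rw [← (TwoPrimeDim.mem_img_idem hX).mp hu, adj_spec, hXa, ← (TwoPrimeDim.mem_img_idem hX).mp hv,
        Matrix.mulVec_mulVec, sub_mul, one_mul, hX, sub_self, Matrix.zero_mulVec]
      simp [Cfsg.sympForm]
    have hadj1 : adj (1 - e₀) = 1 - (1 - e₀) := by
      rw [sub_sub_cancel]
      exact (congrArg adj hadj).symm.trans (adj_adj e₀)
    refine Or.inr (Or.inr (Or.inr (Or.inr (Or.inr (Or.inl ⟨hq, D, hdec, fun i => ?_, eq_inf_of_le hH (fun g hg => ?_)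
      (not_le_decompositionStabilizer (by norm_num) hdec)⟩)))))
    · fin_cases i
      · exact hts _ hid hadj
      · exact hts _ hid1 hadj1
    · have h2 : (g : MM) * (1 - e₀) * ((g⁻¹ : GG) : MM) = 1 - (g : MM) * e₀ * ((g⁻¹ : GG) : MM) := by
        simp [mul_sub, sub_mul]
      rcases hperm g hg with h | h
      · refine ⟨Equiv.refl _, fun i => ?_⟩
        fin_cases i <;> simp [D, TwoPrimeDim.map_img_conj, h, h2, -Matrix.coe_units_inv]
      · refine ⟨Equiv.swap 0 1, fun i => ?_⟩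
        fin_cases i <;> simp [D, TwoPrimeDim.map_img_conj, h, h2, -Matrix.coe_units_inv]
  · obtain ⟨Q, hQ, hpol, hQH⟩ := pair_even hH.1.le (two_eq_zero_of_not_odd hq) hadj hperm
    exact quad_case hq hH hQ hpol hQH

theorem blocks_cases {H N : Subgroup GG} (hH : IsMaximalIn SP H) (hN : N ≤ SP) {t w : ℕ} {e : Fin t → MM}
    (hB : TwoPrimeDim.Blocks H N w e) : Cases H := by
  rcases blocks_split hH.1.le hN hB with ⟨s, v, e', hsv, hnd⟩ | ⟨e₀, hid, hadj, hr0, hr1, hperm⟩
  · exact nd_cases hH hsv hnd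
  · exact pair_cases hH hid hadj hr0 hr1 hperm

theorem field_two {H : Subgroup GG} (hH : IsMaximalIn SP H) (K : Subalgebra F MM) (hK : IsFieldSubalgebra 2 K)
    (hadj : IsAdjointClosedFor ff K) (hnorm : ∀ h ∈ H, h ∈ subalgebraNormalizer K) : Cases H := by
  have heq := eq_inf_of_le hH hnorm (not_le_subalgebraNormalizer (by norm_num) le_rfl hK)
  by_cases hsa : IsSelfAdjointFor ff K
  · exact Or.inr (Or.inr (Or.inr (Or.inr (Or.inr (Or.inr (Or.inl
      ⟨K, hK, hsa, alt_of_selfAdjoint (by norm_num) hK hsa, heq⟩))))))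
  by_cases hq : Odd (Fintype.card F)
  · exact Or.inr (Or.inr (Or.inr (Or.inr (Or.inr (Or.inr (Or.inr (Or.inr (Or.inl
      ⟨hq, K, hK, hadj, hsa, heq⟩))))))))
  obtain ⟨Q, hQ, hpol, hle⟩ := quad_of_field (by norm_num) hH.1.le hK hadj hsa hnorm (two_eq_zero_of_not_odd hq)
  exact quad_case hq hH hQ hpol hle

theorem field_cases {H : Subgroup GG} (hH : IsMaximalIn SP H) (K : Subalgebra F MM) {r : ℕ}
    (hK : IsFieldSubalgebra r K) (h1 : 1 < r) (hr : r ∣ 12) (hadj : IsAdjointClosedFor ff K)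
    (hnorm : ∀ h ∈ H, h ∈ subalgebraNormalizer K) : Cases H := by
  by_cases h2 : 2 ∣ r
  · obtain ⟨L, hL, ha, hn⟩ := exists_sub (by norm_num) h2 (by omega) hK hadj
    exact field_two hH L hL ha fun h hh => hn h (hnorm h hh)
  · obtain rfl : r = 3 := by
      have := Nat.le_of_dvd (by norm_num) hr
      interval_cases r <;> omega
    have hsa := selfAdjoint_of_odd (by norm_num) (by decide) hK hadj
    exact Or.inr (Or.inr (Or.inr (Or.inr (Or.inr (Or.inr (Or.inr (Or.inl
      ⟨K, hK, hsa, alt_of_selfAdjoint (by norm_num) hK hsa,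
        eq_inf_of_le hH hnorm (not_le_subalgebraNormalizer (by norm_num) (by norm_num) hK)⟩)))))))

end Cfsg.Agent.Lib.SympTwelve
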