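import Cfsg.Agent.Lib.SympTwelve.Main
import Cfsg.Agent.Lib.SympTwelve.Tensor

/-!
helper26: the tensor step for `Sp₁₂` in the form used by `SympTwelve.Main`, and the full list.
-/

set_option autoImplicit false

namespace Cfsg.Agent.Lib.SympTwelve

open Matrix Module Cfsg.Geo
open scoped MatrixGroups Matrix

variable {F : Type*} [Field F] [Fintype F]

/-- The tensor step holds for every maximal subgroup. -/
theorem tensorStep {H : Subgroup (Matrix.GeneralLinearGroup (Fin 6 ⊕ Fin 6) F)}
    (hH : IsMaximalIn (Cfsg.spGL 6 F) H) : TensorStep H := by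
  intro N hN hNG d k A φ hirrA hscal hequiv hbij hdk hd hk
  by_cases hirr : ActsIrreducibly (matrixSet H)
  · rcases tensor_cases hH hirr hN hNG hdk hd hk A hirrA hscal φ hequiv hbij with h | ⟨K, hK, hadj, hn⟩
    · exact h
    · exact field_two hH K hK hadj hn
  · by_contra hcases
    refine hirr ((TwoPrimeDim.actsIrreducibly_iff H).mpr fun W hW => ?_)
    by_contra h
    rw [not_or] at h
    exact hcases (reducible_cases hH h.1 h.2 hW)

/-- Every maximal subgroup of `Sp₁₂(q)` is on the list. -/
theorem maximal_cases {H : Subgroup (Matrix.GeneralLinearGroup (Fin 6 ⊕ Fin 6) F)}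
    (hH : IsMaximalIn (Cfsg.spGL 6 F) H) : Cases H :=
  maximal_cases_of hH (tensorStep hH)

end Cfsg.Agent.Lib.SympTwelve
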